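import Cfsg.Agent.PSpFourThree.Data
import Cfsg.Agent.CosetEnum.Upper

/-!
Boolean helpers and the notion of a numbering of an involution centraliser.
-/

set_option autoImplicit false
set_option maxRecDepth 100000

namespace CfsgLib.PSpFourThree

open CfsgLib.CosetEnum (allBelow)

/-- `∃ i < n, r i` -/
noncomputable def anyBelow (r : ℕ → Bool) (n : ℕ) : Bool := !(allBelow (fun i => !(r i)) n)

/-- implication -/
def impB (a b : Bool) : Bool := bif a then b else true

theorem beq_spec {a b : ℕ} : Nat.beq a b = true ↔ a = b :=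
  ⟨Nat.eq_of_beq_eq_true, fun e => e ▸ Nat.beq_refl a⟩

theorem beq_false_spec {a b : ℕ} : Nat.beq a b = false ↔ a ≠ b := by
  rw [← not_iff_not, Bool.not_eq_false, beq_spec, not_not]

theorem blt_spec {a b : ℕ} : Nat.blt a b = true ↔ a < b := by
  simp [Nat.blt, Nat.ble_eq]

theorem blt_false_spec {a b : ℕ} : Nat.blt a b = false ↔ b ≤ a := by
  rw [← not_iff_not, Bool.not_eq_false, blt_spec]
  omega

theorem allBelow_spec {r : ℕ → Bool} : ∀ {n : ℕ}, allBelow r n = true → ∀ i < n, r i = true
  | 0, _, i, hi => absurd hi (Nat.not_lt_zero i)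
  | n + 1, h, i, hi => by
    rw [allBelow, Bool.and_eq_true] at h
    rcases Nat.lt_succ_iff_lt_or_eq.1 hi with h' | rfl
    · exact allBelow_spec h.2 i h'
    · exact h.1

theorem allBelow_intro {r : ℕ → Bool} {n : ℕ} (hr : ∀ m < n, r m = true) : allBelow r n = true := by
  induction n with
  | zero => rfl
  | succ n ihn => rw [allBelow, hr n (by omega), ihn fun m hm => hr m (by omega)]; rfl

theorem anyBelow_spec {r : ℕ → Bool} {n : ℕ} (h : anyBelow r n = true) : ∃ i < n, r i = true := by
  by_contra hc
  push Not at hc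
  rw [anyBelow, allBelow_intro (fun m hm => by simpa using hc m hm)] at h
  exact absurd h (by simp)

theorem impB_spec {a b : Bool} (h : impB a b = true) (ha : a = true) : b = true := by
  subst ha; exact h

/-- commuting indices -/
noncomputable def com5 (a b : ℕ) : Bool := Nat.beq (mul5 a b) (mul5 b a)

/-- the conjugate of `b` by `a` -/
noncomputable def cj5 (a b : ℕ) : ℕ := mul5 (mul5 a b) (inv5 a)

/-- indices of involutions -/
noncomputable def isInv5 (i : ℕ) : Bool := Nat.beq (mul5 i i) 0 && !(Nat.beq i 0)

/-- the subgroup centralising `aI` -/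
noncomputable def inP (i : ℕ) : Bool := com5 i aI

/-- `f` numbers the centraliser of `s`, compatibly with the product. -/
structure Emb5 {G : Type*} [Group G] (f : ℕ → G) (s : G) : Prop where
  mul : ∀ i < 576, ∀ j < 576, f (mul5 i j) = f i * f j
  inj : ∀ i < 576, ∀ j < 576, f i = f j → i = j
  surj : ∀ h : G, h * s = s * h → ∃ i < 576, f i = h
  map_t : f tI = s

end CfsgLib.PSpFourThree
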