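import Cfsg.Agent.PSpFourThree.Swap
import Cfsg.Agent.M12Type.Cent8

/-!
The centraliser of `zI`: it has order 96.
-/

set_option autoImplicit false
set_option maxRecDepth 100000

namespace CfsgLib.PSpFourThree

open CfsgLib.CosetEnum (allBelow)
open CfsgLib.StronglyEmbedded (orderOf_two_iff orderOf_conj)

/-- indices of involutions fused to the centre -/
noncomputable def tTy (i : ℕ) : Bool := Nat.beq (cls5 i) 1 || Nat.beq (cls5 i) 3

theorem triple_check : (triple.all fun e =>
    Nat.blt e.1 576 && Nat.blt e.2.1 576 && Nat.blt e.2.2 576 && inE e.1 && Nat.beq (cls5 e.1) 3 &&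
    !(Nat.beq e.1 aI) && Nat.beq (cj5 e.2.1 aI) e.1 && inP e.2.2 &&
    Nat.beq (cj5 e.2.1 (phi e.2.2)) zI && Nat.beq (cls5 (mul5 e.1 zI)) 2 &&
    allBelow (fun k => impB (com5 k e.2.2) (Nat.beq (mul5 (mul5 k k) (mul5 k k)) 0 &&
      impB (tTy k) (inP k && inE (cj5 e.2.1 (phi k))))) 576) = true := by
  decide +kernel

theorem five_check : allBelow (fun i => impB (inE i && tTy i)
    (Nat.beq i tI || Nat.beq i aI || (triple.map Prod.fst).contains i)) 576 = true ∧
    triple.map Prod.fst = [445, 523, 575] ∧ mul5 445 523 = mul5 575 zI ∧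
    isInv5 445 = true ∧ isInv5 523 = true ∧ isInv5 575 = true := by
  decide +kernel

theorem triple_spec {a d i : ℕ} (he : (a, d, i) ∈ triple) :
    a < 576 ∧ d < 576 ∧ i < 576 ∧ inE a = true ∧ cls5 a = 3 ∧ a ≠ aI ∧ cj5 d aI = a ∧ inP i = true ∧
    cj5 d (phi i) = zI ∧ cls5 (mul5 a zI) = 2 ∧
    ∀ k < 576, com5 k i = true → mul5 (mul5 k k) (mul5 k k) = 0 ∧
      (tTy k = true → inP k = true ∧ inE (cj5 d (phi k)) = true) := by
  have h := List.all_eq_true.1 triple_check _ he
  simp only [Bool.and_eq_true, blt_spec, beq_spec, Bool.not_eq_true', beq_false_spec] at h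
  obtain ⟨⟨⟨⟨⟨⟨⟨⟨⟨⟨h1, h2⟩, h3⟩, h4⟩, h5⟩, h6⟩, h7⟩, h8⟩, h9⟩, h10⟩, h11⟩ := h
  refine ⟨h1, h2, h3, h4, h5, h6, h7, h8, h9, h10, fun k hk hc => ?_⟩
  have := impB_spec (allBelow_spec h11 k hk) hc
  rw [Bool.and_eq_true, beq_spec] at this
  exact ⟨this.1, fun e => by simpa [Bool.and_eq_true] using impB_spec this.2 e⟩

variable {G : Type*} [Group G] {f : ℕ → G} {s g : G}

theorem Emb5.pow_four (h : Emb5 f s) {k : ℕ} (hk : k < 576)
    (e : mul5 (mul5 k k) (mul5 k k) = 0) : f k ^ 4 = 1 := by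
  rw [show (4 : ℕ) = 2 + 2 from rfl, pow_add, pow_two, ← h.mul k hk k hk,
    ← h.mul _ (mul5_lt hk hk) _ (mul5_lt hk hk), e, h.map_zero]

variable [Finite G]

/-- The hypotheses established so far. -/
structure Setup (f : ℕ → G) (s g : G) : Prop where
  emb : Emb5 f s
  swap : Swap f g
  noIndexTwo : ∀ H : Subgroup G, H.index ≠ 2

variable (st : Setup f s g)
include st

theorem Setup.sa : IsConj s (f aI) := isConj_iff.mpr ⟨g, (st.swap.conj_s st.emb).1⟩

theorem Setup.not_z : ¬ IsConj s (f zI) := st.swap.not_conj_z st.emb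

theorem Setup.zi : IsConj (f zI) (f iI) := by
  obtain ⟨⟨-, -, -, hzS⟩, -⟩ := sylow_laws
  obtain ⟨⟨-, -, -, hzQ⟩, -⟩ := inner_laws
  exact (st.emb.fuse_inner st.noIndexTwo const_lt.2.2.1 hzS hzQ const_cls.2.2.1).resolve_left
    fun e => st.not_z e.symm

/-- Fusion in the centraliser of `s`. -/
theorem Setup.type_of {i : ℕ} (hi : i < 576) (hv : isInv5 i = true) :
    (tTy i = true → IsConj s (f i)) ∧ (tTy i = false → IsConj (f zI) (f i)) := by
  have hrep := st.emb.isConj_rep hi hv
  rcases inv_classes hi hv with e | e | e | e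
  · subst e
    exact ⟨fun _ => by rw [st.emb.map_t], fun e => absurd e (by decide +kernel)⟩
  · rw [e] at hrep
    exact ⟨fun h => by simp [tTy, e] at h, fun _ => st.zi.trans hrep⟩
  · rw [e] at hrep
    exact ⟨fun _ => st.sa.trans hrep, fun h => by simp [tTy, e] at h⟩
  · rw [e] at hrep
    exact ⟨fun h => by simp [tTy, e] at h, fun _ => hrep⟩

theorem Setup.type_iff {i : ℕ} (hi : i < 576) (hv : isInv5 i = true) :
    IsConj s (f i) ↔ tTy i = true := by
  refine ⟨fun hc => ?_, (st.type_of hi hv).1⟩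
  cases ht : tTy i
  · exact absurd (hc.trans ((st.type_of hi hv).2 ht).symm) st.not_z
  · rfl

/-- An index with conjugate value is an involution of the centre's type. -/
theorem Setup.index_of_conj {i : ℕ} (hi : i < 576) (hc : IsConj s (f i)) :
    isInv5 i = true ∧ tTy i = true := by
  obtain ⟨b, hb⟩ := isConj_iff.1 hc
  obtain ⟨j, hj, hv, e⟩ := st.emb.exists_invol (y := f i)
    (by rw [← hb, orderOf_conj, st.emb.orderOf_s]) (st.emb.comm_s hi)
  rw [st.emb.inj j hj i hi e] at hv
  exact ⟨hv, (st.type_iff hi hv).1 hc⟩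

/-- Every involution is fused to `s` or to `zI`. -/
theorem Setup.two_classes {y : G} (hy : orderOf y = 2) : IsConj s y ∨ IsConj (f zI) y := by
  haveI : Fact (Nat.Prime 2) := ⟨Nat.prime_two⟩
  obtain ⟨T, hT⟩ := st.emb.exists_sylow_eq
  obtain ⟨U, hU⟩ := (IsPGroup.of_card (n := 1) (by rw [Nat.card_zpowers, hy, pow_one]) :
    IsPGroup 2 (Subgroup.zpowers y)).exists_le_sylow
  obtain ⟨b, hb⟩ := MulAction.exists_smul_eq G U T
  have hm : b * y * b⁻¹ ∈ (T : Subgroup G) := by
    rw [← hb]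
    exact Subgroup.mem_map.mpr ⟨y, hU (Subgroup.mem_zpowers y), rfl⟩
  rw [hT] at hm
  obtain ⟨i, hi, -, hie⟩ := hm
  obtain ⟨j, hj, hv, hje⟩ := st.emb.exists_invol (y := f i) (by rw [hie, orderOf_conj, hy])
    (st.emb.comm_s hi)
  rw [st.emb.inj j hj i hi hje] at hv
  have hyi : IsConj (f i) y := (isConj_iff.mpr ⟨b, hie.symm⟩).symm
  cases ht : tTy i
  · exact .inr (((st.type_of hi hv).2 ht).trans hyi)
  · exact .inl (((st.type_of hi hv).1 ht).trans hyi)

omit [Finite G] in
theorem Setup.mem_triple {a d i : ℕ} (he : (a, d, i) ∈ triple) {y : G}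
    (h1 : y * f a = f a * y) (h2 : y * f zI = f zI * y) :
    ∃ k < 576, com5 k i = true ∧ y = f d * g * f k * (f d * g)⁻¹ := by
  obtain ⟨ha, hd, hi, -, -, -, hda, hiP, hdz, -⟩ := triple_spec he
  obtain ⟨hgs, -, -⟩ := st.swap.conj_s st.emb
  set b := f d * g
  have hbs : b * s * b⁻¹ = f a := by
    rw [← hda, st.emb.map_cj hd const_lt.2.1, ← hgs]; simp only [b]; group
  have hbi : b * f i * b⁻¹ = f zI := by
    rw [← hdz, st.emb.map_cj hd (phi_lt hi hiP).1, ← st.swap.conj i hi hiP]; simp only [b]; group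
  obtain ⟨k, hk, hke⟩ := st.emb.surj (b⁻¹ * y * b) (by
    rw [← hbs] at h1
    calc b⁻¹ * y * b * s = b⁻¹ * (y * (b * s * b⁻¹)) * b := by group
      _ = b⁻¹ * (b * s * b⁻¹ * y) * b := by rw [h1]
      _ = _ := by group)
  refine ⟨k, hk, (st.emb.com_iff hk hi).2 ?_, by rw [hke]; group⟩
  rw [hke]
  rw [← hbi] at h2
  calc b⁻¹ * y * b * f i = b⁻¹ * (y * (b * f i * b⁻¹)) * b := by group
    _ = b⁻¹ * (b * f i * b⁻¹ * y) * b := by rw [h2]
    _ = _ := by group

omit [Finite G] in
theorem Setup.pow_four_triple {a d i : ℕ} (he : (a, d, i) ∈ triple) {y : G}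
    (h1 : y * f a = f a * y) (h2 : y * f zI = f zI * y) : y ^ 4 = 1 := by
  obtain ⟨k, hk, hc, rfl⟩ := st.mem_triple he h1 h2
  rw [conj_pow, st.emb.pow_four hk ((triple_spec he).2.2.2.2.2.2.2.2.2.2 k hk hc).1]
  group

/-- In such a centraliser the conjugates of `s` lie in the elementary subgroup. -/
theorem Setup.conj_triple {a d i : ℕ} (he : (a, d, i) ∈ triple) {y : G}
    (h1 : y * f a = f a * y) (h2 : y * f zI = f zI * y) (hy : IsConj s y) :
    ∃ j < 576, inE j = true ∧ f j = y := by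
  obtain ⟨k, hk, hc, rfl⟩ := st.mem_triple he h1 h2
  have hd := (triple_spec he).2.1
  obtain ⟨-, ht⟩ := st.index_of_conj hk (hy.trans (isConj_iff.mpr ⟨f d * g, rfl⟩).symm)
  obtain ⟨hP, hE⟩ := ((triple_spec he).2.2.2.2.2.2.2.2.2.2 k hk hc).2 ht
  refine ⟨_, cj5_lt hd (phi_lt hk hP).1, hE, ?_⟩
  rw [st.emb.map_cj hd (phi_lt hk hP).1, ← st.swap.conj k hk hP]
  group

omit [Finite G] in
theorem Setup.z_eq : f zI = s * f aI := by
  rw [← st.emb.map_t, ← st.emb.mul _ const_lt.1 _ const_lt.2.1, const_cls.2.2.2.2.2.2.2.2]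

omit [Finite G] in
/-- the product with `zI` of the centre is `aI` -/
theorem Setup.s_z : s * f zI = f aI ∧ f zI * s = f aI := by
  have hs := (orderOf_two_iff.1 st.emb.orderOf_s).1
  have hc := st.emb.comm_s const_lt.2.1
  constructor
  · rw [st.z_eq, ← mul_assoc, hs, one_mul]
  · rw [st.z_eq, mul_assoc, hc, ← mul_assoc, hs, one_mul]

/-- A conjugate of `s` centralising `zI` does not exchange `s` and `aI`. -/
theorem Setup.not_swap {u : G} (hu : IsConj s u) (huz : u * f zI = f zI * u)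
    (hus : u * s * u⁻¹ = f aI) : False := by
  have h := st.emb
  obtain ⟨b, hb⟩ := isConj_iff.1 hu
  have hu2 : u * u = 1 := (orderOf_two_iff.1 (by rw [← hb, orderOf_conj, h.orderOf_s])).1
  have hui : u⁻¹ = u := inv_eq_of_mul_eq_one_right hu2
  have hua : u * f aI * u⁻¹ = s := by
    rw [← hus]
    calc u * (u * s * u⁻¹) * u⁻¹ = (u * u) * s * (u * u)⁻¹ := by group
      _ = s := by rw [hu2]; group
  obtain ⟨m, hm, hm1, hm2, -, -⟩ := h.exists_acts (.inl rfl) (.inl rfl) hua hus
  have hmm : ∀ k < 16, m (m k) = k := fun k hk => by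
    refine ((eI_laws (hm _ (hm k hk).1).1).2.2.2.2.1 k hk).2
      (h.inj _ (eI_lt (hm _ (hm k hk).1).1) _ (eI_lt hk) ?_)
    rw [← (hm _ (hm k hk).1).2, ← (hm k hk).2]
    calc u * (u * f (eI k) * u⁻¹) * u⁻¹ = u * u * f (eI k) * (u * u)⁻¹ := by group
      _ = _ := by rw [hu2]; group
  -- a member of the triple is fixed
  have hfive : ∀ k < 16, k ≠ 1 → k ≠ 2 → tTy (eI k) = true → eI k ∈ [445, 523, 575] := by
    intro k hk h1 h2 ht
    have := impB_spec (allBelow_spec five_check.1 _ (eI_lt hk))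
      (by rw [Bool.and_eq_true]; exact ⟨(eI_laws hk).1, ht⟩)
    rw [five_check.2.1] at this
    simp only [Bool.or_eq_true, beq_spec, List.contains_iff_mem] at this
    rcases this with (e | e) | e
    · exact absurd (((eI_laws hk).2.2.2.2.1 1 (by norm_num)).2 (e.trans eI_consts.2.1.symm)) h1
    · exact absurd (((eI_laws hk).2.2.2.2.1 2 (by norm_num)).2 (e.trans eI_consts.2.2.1.symm)) h2
    · exact e
  have hpick : ∀ a ∈ [445, 523, 575], ∃ k < 16, k ≠ 1 ∧ k ≠ 2 ∧ eI k = a ∧ isInv5 a = true ∧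
      tTy a = true := by
    have : ([445, 523, 575].all fun a => isInv5 a && tTy a &&
        anyBelow (fun k => !(Nat.beq k 1) && !(Nat.beq k 2) && Nat.beq (eI k) a) 16) = true := by
      decide +kernel
    intro a ha
    have := List.all_eq_true.1 this a ha
    simp only [Bool.and_eq_true] at this
    obtain ⟨k, hk, hke⟩ := anyBelow_spec this.2
    simp only [Bool.and_eq_true, Bool.not_eq_true', beq_false_spec, beq_spec] at hke
    exact ⟨k, hk, hke.1.1, hke.1.2, hke.2, this.1.1, this.1.2⟩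
  have hsend : ∀ a ∈ [445, 523, 575], ∃ a' ∈ [445, 523, 575], u * f a * u⁻¹ = f a' := by
    intro a ha
    obtain ⟨k, hk, hk1, hk2, rfl, hv, ht⟩ := hpick a ha
    have hc : IsConj s (f (eI (m k))) := by
      rw [← (hm k hk).2]
      exact ((st.type_of (eI_lt hk) hv).1 ht).trans (isConj_iff.mpr ⟨u, rfl⟩)
    refine ⟨_, hfive _ (hm k hk).1 (fun e => ?_) (fun e => ?_)
      (st.index_of_conj (eI_lt (hm k hk).1) hc).2, (hm k hk).2⟩
    · have := hmm k hk
      rw [e, hm1, show tgtK aI = 2 by decide] at this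
      exact hk2 this.symm
    · have := hmm k hk
      rw [e, ← show tgtK aI = 2 by decide, hm2] at this
      exact hk1 this.symm
  have hinv : ∀ {a a'}, u * f a * u⁻¹ = f a' → u * f a' * u⁻¹ = f a := fun {a a'} e => by
    rw [← e]
    calc u * (u * f a * u⁻¹) * u⁻¹ = u * u * f a * (u * u)⁻¹ := by group
      _ = _ := by rw [hu2]; group
  have hne : ∀ a ∈ [445, 523, 575], ∀ a' ∈ [445, 523, 575], f a = f a' → a = a' := fun a ha a' ha' e =>
    h.inj a (by simp at ha; omega) a' (by simp at ha'; omega) e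
  obtain ⟨a, ha, hfix⟩ : ∃ a ∈ [445, 523, 575], u * f a * u⁻¹ = f a := by
    obtain ⟨x1, hx1, e1⟩ := hsend 445 (by simp)
    obtain ⟨x2, hx2, e2⟩ := hsend 523 (by simp)
    obtain ⟨x3, hx3, e3⟩ := hsend 575 (by simp)
    by_contra hc
    push Not at hc
    have key : ∀ {a x b y : ℕ}, a ∈ [445, 523, 575] → b ∈ [445, 523, 575] → x = y →
        u * f a * u⁻¹ = f x → u * f b * u⁻¹ = f y → a = b := fun ha hb e ea eb => by
      subst e
      exact hne _ ha _ hb (by simpa using ea.trans eb.symm)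
    have n1 : x1 ≠ 445 := fun e => hc 445 (by simp) (by rw [e1, e])
    have n2 : x2 ≠ 523 := fun e => hc 523 (by simp) (by rw [e2, e])
    have n3 : x3 ≠ 575 := fun e => hc 575 (by simp) (by rw [e3, e])
    have d12 : x1 ≠ x2 := fun e => absurd (key (by simp) (by simp) e e1 e2) (by norm_num)
    have d13 : x1 ≠ x3 := fun e => absurd (key (by simp) (by simp) e e1 e3) (by norm_num)
    simp only [List.mem_cons, List.not_mem_nil, or_false] at hx1 hx2 hx3
    rcases hx1 with e | e | e
    · exact n1 e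
    · subst e
      have := key (by simp) (by simp) rfl (hinv e1) (hinv e1)
      have h3 : x3 = 445 := by omega
      subst h3
      have := key (a := 523) (b := 523) (by simp) (by simp) rfl e2 e2
      have hx := hinv e3
      have := hne 523 (by simp) 575 (by simp) (e1.symm.trans hx)
      norm_num at this
    · subst e
      have h2' : x2 = 445 := by omega
      subst h2'
      have hx := hinv e2
      have := hne 575 (by simp) 523 (by simp) (e1.symm.trans hx)
      norm_num at this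
  obtain ⟨⟨a', d, i⟩, he, rfl⟩ := List.mem_map.1 (five_check.2.1.symm ▸ ha : a ∈ triple.map Prod.fst)
  obtain ⟨j, hj, hjE, hje⟩ := st.conj_triple he (mul_inv_eq_iff_eq_mul.1 hfix) huz hu
  have := h.comm_s hj
  rw [hje] at this
  rw [this, mul_inv_cancel_right, ← h.map_t] at hus
  exact absurd (h.inj _ const_lt.1 _ const_lt.2.1 hus) (by decide)

/-- A conjugate of `s` inside the centraliser of `zI` commuting with `s` is `s` or `aI`. -/
theorem Setup.conj_comm {m : G} (hm : m * f zI = f zI * m)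
    (hc : m * s * m⁻¹ * s = s * (m * s * m⁻¹)) : m * s * m⁻¹ = s ∨ m * s * m⁻¹ = f aI := by
  have h := st.emb
  obtain ⟨-, ha, hz, -⟩ := const_lt
  obtain ⟨j, hj, hje⟩ := h.surj _ hc
  have hconj : IsConj s (f j) := isConj_iff.mpr ⟨m, hje.symm⟩
  obtain ⟨hv, ht⟩ := st.index_of_conj hj hconj
  have hjz : f j * f zI = f zI * f j := by
    have := h.comm_s hz
    rw [hje]
    have hm' : m⁻¹ * f zI = f zI * m⁻¹ := (Commute.inv_left hm).eq
    calc m * s * m⁻¹ * f zI = m * s * (m⁻¹ * f zI) := by group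
      _ = m * (s * f zI) * m⁻¹ := by rw [hm']; group
      _ = m * (f zI * s) * m⁻¹ := by rw [this]
      _ = (m * f zI) * s * m⁻¹ := by group
      _ = _ := by rw [hm]; group
  have hP := (inE_laws hj).2.2.1.2 ((h.com_iff hj hz).2 hjz)
  have := impB_spec (allBelow_spec five_check.1 j hj) (by
    rw [Bool.and_eq_true]; exact ⟨(inE_laws hj).2.1 hP (isInv5_spec.1 hv).1, ht⟩)
  simp only [Bool.or_eq_true, beq_spec, List.contains_iff_mem] at this
  rcases this with (e | e) | e
  · exact .inl (by rw [← hje, e, h.map_t])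
  · exact .inr (by rw [← hje, e])
  · exfalso
    obtain ⟨⟨a', d, i⟩, he, rfl⟩ := List.mem_map.1 e
    have hy := const_lt.2.2.2.2.2.2.2.2.2.2.2
    have hd : inP yR = true ∧ mul5 (mul5 yR yR) yR = 0 ∧ yR ≠ 0 := by decide +kernel
    obtain ⟨hyP, h3, hy0⟩ := hd
    have hyz := (h.com_iff hy hz).1 ((inE_laws hy).2.2.1.1 hyP)
    have hys := h.comm_s hy
    have hm' : m⁻¹ * f zI = f zI * m⁻¹ := (Commute.inv_left hm).eq
    have h4 := st.pow_four_triple he (y := m * f yR * m⁻¹) (by
      show _ * f a' = f a' * _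
      rw [hje]
      calc m * f yR * m⁻¹ * (m * s * m⁻¹) = m * (f yR * s) * m⁻¹ := by group
        _ = m * (s * f yR) * m⁻¹ := by rw [hys]
        _ = _ := by group)
      ((Commute.mul_left (Commute.mul_left hm hyz) hm').eq)
    rw [conj_pow, conj_eq_one_iff] at h4
    have hy3 := congrArg f h3
    rw [h.mul _ (mul5_lt hy hy) _ hy, h.mul _ hy _ hy, h.map_zero] at hy3
    refine hy0 (h.inj _ hy 0 (by norm_num) ?_)
    rw [h.map_zero, ← h4, pow_succ, pow_succ, pow_two, hy3, one_mul]

/-- An element centralising `zI` permutes `s` and `aI`. -/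
theorem Setup.centralizer_z {m : G} (hm : m * f zI = f zI * m) :
    m * s * m⁻¹ = s ∨ m * s * m⁻¹ = f aI := by
  classical
  have h := st.emb
  obtain ⟨hs2, hs1⟩ := orderOf_two_iff.1 h.orderOf_s
  have hsi : s⁻¹ = s := inv_eq_of_mul_eq_one_right hs2
  have hz := const_lt.2.2.1
  have hz2 : orderOf (f zI) = 2 := h.orderOf_invol hz const_cls.2.2.1
  set C := Subgroup.centralizer ({f zI} : Set G) with hC
  let zc : C := ⟨f zI, Subgroup.mem_centralizer_singleton_iff.mpr rfl⟩
  let sc : C := ⟨s, Subgroup.mem_centralizer_singleton_iff.mpr (h.comm_s hz).symm⟩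
  let N : Subgroup C := Subgroup.zpowers zc
  have hN : ∀ x : C, x ∈ N ↔ (x : G) = 1 ∨ (x : G) = f zI := by
    intro x
    constructor
    · rintro ⟨k, rfl⟩
      rcases Int.even_or_odd k with ⟨r, rfl⟩ | ⟨r, rfl⟩ <;>
        simp only [SubgroupClass.coe_zpow]
      · refine .inl ?_
        show f zI ^ (r + r) = 1
        rw [zpow_add, ← (Commute.refl (f zI)).mul_zpow, (orderOf_two_iff.1 hz2).1, one_zpow]
      · refine .inr ?_
        show f zI ^ (2 * r + 1) = f zI
        rw [zpow_add, two_mul, zpow_add, ← (Commute.refl (f zI)).mul_zpow,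
          (orderOf_two_iff.1 hz2).1, one_zpow, one_mul, zpow_one]
    · rintro (e | e)
      · rw [show x = 1 from Subtype.ext e]; exact one_mem _
      · rw [show x = zc from Subtype.ext e]; exact Subgroup.mem_zpowers _
  haveI hNn : N.Normal := ⟨fun x hx y => by
    rw [hN] at hx ⊢
    rcases hx with e | e
    · exact .inl (by simp [e])
    · refine .inr ?_
      simp only [Subgroup.coe_mul, Subgroup.coe_inv, e]
      rw [Subgroup.mem_centralizer_singleton_iff.mp y.2, mul_inv_cancel_right]⟩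
  let π := QuotientGroup.mk' N
  have hsN : sc ∉ N := by
    rw [hN]
    rintro (e | e)
    · exact hs1 e
    · exact absurd (h.inj _ const_lt.1 _ hz (h.map_t.trans e)) (by decide)
  have hπs : orderOf (π sc) = 2 := orderOf_two_iff.2
    ⟨by rw [← map_mul, show sc * sc = 1 from Subtype.ext hs2, map_one],
      fun e => hsN ((QuotientGroup.eq_one_iff _).1 e)⟩
  have heq : ∀ x y : C, π x = π y → (x : G) = y ∨ (x : G) = f zI * y := by
    intro x y e
    have hm0 : x * y⁻¹ ∈ N := (QuotientGroup.eq_one_iff _).1 (by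
      show π (x * y⁻¹) = 1
      rw [map_mul, map_inv, e, mul_inv_cancel])
    rcases (hN _).1 hm0 with e' | e'
    · exact .inl (mul_inv_eq_one.1 e')
    · exact .inr (mul_inv_eq_iff_eq_mul.1 e')
  -- the image of `s` is isolated
  have hiso : Cfsg.IsIsolated (π sc) := by
    intro q hq
    obtain ⟨b, rfl⟩ := QuotientGroup.mk'_surjective N q
    have hbz := Subgroup.mem_centralizer_singleton_iff.mp b.2
    set x := (b : G) * s * (b : G)⁻¹ with hx
    have hxc : IsConj s x := isConj_iff.mpr ⟨b, rfl⟩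
    have hcase : x = s ∨ x = f aI := by
      have hq' : π (sc * (b * sc * b⁻¹)) = π (b * sc * b⁻¹ * sc) := by
        simp only [map_mul, map_inv]
        exact hq.eq
      rcases heq _ _ hq' with e | e
      · exact st.conj_comm hbz (by simpa using e.symm)
      · exfalso
        refine st.not_swap hxc ?_ ?_
        · have := Subgroup.mem_centralizer_singleton_iff.mp (b * sc * b⁻¹).2
          simpa [hx] using this
        · have e' : s * x = f zI * (x * s) := e
          have hx2 : x * x = 1 := by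
            rw [hx]
            calc (b : G) * s * (b : G)⁻¹ * ((b : G) * s * (b : G)⁻¹) = b * (s * s) * (b : G)⁻¹ := by
                  group
              _ = 1 := by rw [hs2]; group
          have hxz : x * f zI = f zI * x := by
            have := Subgroup.mem_centralizer_singleton_iff.mp (b * sc * b⁻¹).2
            simpa [hx] using this
          have hz1 : f zI * f zI = 1 := (orderOf_two_iff.1 hz2).1
          rw [inv_eq_of_mul_eq_one_right hx2]
          calc x * s * x = f zI * f zI * (x * s) * x := by rw [hz1, one_mul]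
            _ = f zI * (f zI * (x * s)) * x := by group
            _ = f zI * (s * x) * x := by rw [← e']
            _ = f zI * s * (x * x) := by group
            _ = f aI := by rw [hx2, mul_one, st.s_z.2]
    rw [← map_inv, ← map_mul, ← map_mul]
    rcases hcase with e | e
    · exact congrArg π (Subtype.ext (by simpa [hx] using e))
    · refine (QuotientGroup.eq).mpr ?_
      rw [hN]
      right
      have hai : (f aI)⁻¹ = f aI := inv_eq_of_mul_eq_one_right
        (orderOf_two_iff.1 (h.orderOf_invol const_lt.2.1 const_cls.2.1)).1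
      show ((b : G) * s * (b : G)⁻¹)⁻¹ * s = f zI
      rw [← hx, e, hai, h.comm_s const_lt.2.1, st.z_eq]
  have hZ := CfsgLib.ZStar.inZStar_of_isolated hπs hiso
  -- the core of the quotient is trivial
  set O := Cfsg.pPrimeCore 2 (C ⧸ N) with hO
  have hodd : ∀ o ∈ O, o ^ 4 = 1 → o = 1 := by
    intro o ho h4
    have hd : orderOf o ∣ 2 ^ 2 := orderOf_dvd_of_pow_eq_one h4
    obtain ⟨k, -, hk⟩ := (Nat.dvd_prime_pow Nat.prime_two).1 hd
    rcases k.eq_zero_or_pos with rfl | hk0
    · exact orderOf_eq_one_iff.1 (by simpa using hk)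
    · exact (CfsgLib.Constrained.pPrimeCore_not_dvd (p := 2)
        ((hk ▸ dvd_pow_self 2 hk0.ne').trans (Subgroup.orderOf_dvd_natCard _ ho))).elim
  haveI : O.Normal := inferInstance
  have hinC : ∀ {a}, a ∈ triple.map Prod.fst → a < 576 ∧ f a ∈ C ∧ isInv5 a = true := by
    intro a ha
    obtain ⟨⟨a', d, i⟩, he, rfl⟩ := List.mem_map.1 ha
    obtain ⟨ha', -, -, haE, hacls, -⟩ := triple_spec he
    refine ⟨ha', Subgroup.mem_centralizer_singleton_iff.mpr ?_,
      isInv_of_cls ha' (by show cls5 a' ≠ 0; rw [hacls]; norm_num)⟩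
    obtain ⟨k, hk, rfl⟩ := (inE_laws ha').1 haE
    exact (h.com_iff ha' hz).1 (eI_laws hk).2.2.1
  have hfpf : ∀ {a} (ha : a ∈ triple.map Prod.fst), ∀ o ∈ O,
      π ⟨f a, (hinC ha).2.1⟩ * o = o * π ⟨f a, (hinC ha).2.1⟩ → o = 1 := by
    intro a ha o ho hcom
    obtain ⟨b, rfl⟩ := QuotientGroup.mk'_surjective N o
    obtain ⟨⟨a', d, i⟩, he, rfl⟩ := List.mem_map.1 ha
    obtain ⟨ha', -, -, -, hacls, -, -, -, -, hazcls, -⟩ := triple_spec he
    have hbz := Subgroup.mem_centralizer_singleton_iff.mp b.2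
    rw [← map_mul, ← map_mul] at hcom
    rcases heq _ _ hcom with e | e
    · have h4 := st.pow_four_triple he (y := (b : G)) (e.symm : (b : G) * f a' = f a' * b) hbz
      refine hodd _ ho ?_
      rw [← map_pow, show b ^ 4 = 1 from Subtype.ext (by simpa using h4), map_one]
    · exfalso
      have hva : isInv5 a' = true := isInv_of_cls ha' (by rw [hacls]; norm_num)
      have c1 := (st.type_of ha' hva).1 (by simp [tTy, hacls])
      have haz := mul5_lt ha' hz
      have c2 := (st.type_of haz (isInv_of_cls haz (by rw [hazcls]; norm_num))).2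
        (by rw [tTy, hazcls]; rfl)
      have e' : f a' * (b : G) = f zI * ((b : G) * f a') := e
      refine st.not_z ((c1.trans ?_).trans c2.symm)
      refine isConj_iff.mpr ⟨(b : G), ?_⟩
      rw [h.mul _ ha' _ hz]
      calc (b : G) * f a' * (b : G)⁻¹
          = f zI * (f zI * ((b : G) * f a')) * (b : G)⁻¹ := by
            rw [← mul_assoc (f zI), (orderOf_two_iff.1 hz2).1, one_mul]
        _ = f zI * (f a' * b) * (b : G)⁻¹ := by rw [← e']
        _ = f zI * f a' := by group
        _ = f a' * f zI := ((Subgroup.mem_centralizer_singleton_iff.mp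
              (hinC ha).2.1).symm)
  have hmem : ∀ a ∈ [445, 523, 575], a ∈ triple.map Prod.fst := fun a ha => five_check.2.1 ▸ ha
  have hA := hmem 445 (by simp)
  have hB := hmem 523 (by simp)
  have hD := hmem 575 (by simp)
  have hsq : ∀ {a} (ha : a ∈ triple.map Prod.fst),
      π ⟨f a, (hinC ha).2.1⟩ * π ⟨f a, (hinC ha).2.1⟩ = 1 := by
    intro a ha
    rw [← map_mul]
    refine (congrArg π (Subtype.ext ?_)).trans (map_one π)
    show f a * f a = 1
    exact (orderOf_two_iff.1 (h.orderOf_invol (hinC ha).1 (hinC ha).2.2)).1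
  have hprod : π ⟨f 445, (hinC hA).2.1⟩ * π ⟨f 523, (hinC hB).2.1⟩ =
      π ⟨f 575, (hinC hD).2.1⟩ := by
    rw [← map_mul]
    have e : (⟨f 445, (hinC hA).2.1⟩ : C) * ⟨f 523, (hinC hB).2.1⟩ =
        ⟨f 575, (hinC hD).2.1⟩ * zc := Subtype.ext (by
      show f 445 * f 523 = f 575 * f zI
      rw [← h.mul _ (by norm_num) _ (by norm_num), ← h.mul _ (by norm_num) _ hz, five_check.2.2.1])
    rw [e, map_mul, show π zc = 1 from (QuotientGroup.eq_one_iff _).2 (Subgroup.mem_zpowers _),
      mul_one]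
  have hO1 : ∀ o ∈ O, o = 1 := fun o ho => CfsgLib.M12Type.Eight.eq_one_of_three (M := O)
    (hsq hA) (hsq hB) (fun o ho => hfpf hA o ho) (fun o ho => hfpf hB o ho)
    (fun o ho e => hfpf hD o ho (by rwa [hprod] at e)) ho
  have hm' : m ∈ C := Subgroup.mem_centralizer_singleton_iff.mpr hm
  have h1 := hO1 _ (hZ (π ⟨m, hm'⟩))
  rw [mul_inv_eq_one, ← map_inv, ← map_mul, ← map_mul] at h1
  rcases heq _ _ h1 with e | e
  · exact .inl (by simpa using e)
  · refine .inr ?_
    have e' : m * s * m⁻¹ = f zI * s := by simpa using e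
    rw [e', st.s_z.2]

/-- Membership in the centraliser of `zI`. -/
theorem Setup.mem_centralizer_z {m : G} (hm : m * f zI = f zI * m) :
    ∃ k < 48, m = f (pel k) ∨ m = g * f (pel k) := by
  have h := st.emb
  obtain ⟨-, ha, hz, -⟩ := const_lt
  obtain ⟨hgs, hga, hgz⟩ := st.swap.conj_s h
  have key : ∀ x : G, x * f zI = f zI * x → x * s * x⁻¹ = s → ∃ k < 48, x = f (pel k) := by
    intro x hx hxs
    obtain ⟨i, hi, rfl⟩ := h.surj x (mul_inv_eq_iff_eq_mul.1 hxs)
    obtain ⟨k, hk, e, -⟩ := exists_pel hi ((inE_laws hi).2.2.1.2 ((h.com_iff hi hz).2 hx))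
    exact ⟨k, hk, by rw [e]⟩
  rcases st.centralizer_z hm with e | e
  · obtain ⟨k, hk, e'⟩ := key m hm e
    exact ⟨k, hk, .inl e'⟩
  · obtain ⟨k, hk, e'⟩ := key (g⁻¹ * m)
      ((Commute.mul_left (Commute.inv_left (mul_inv_eq_iff_eq_mul.1 hgz)) hm).eq)
      (by
        calc g⁻¹ * m * s * (g⁻¹ * m)⁻¹ = g⁻¹ * (m * s * m⁻¹) * g := by group
          _ = g⁻¹ * (g * s * g⁻¹) * g := by rw [e, hgs]
          _ = s := by group)
    exact ⟨k, hk, .inr (by rw [← e']; group)⟩

/-- The conjugates of `s` centralising `zI` lie in the elementary subgroup. -/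
theorem Setup.conj_in_cent {u : G} (hu : IsConj s u) (huz : u * f zI = f zI * u) :
    ∃ j < 576, inE j = true ∧ tTy j = true ∧ f j = u := by
  have h := st.emb
  obtain ⟨k, hk, e | e⟩ := st.mem_centralizer_z huz
  · obtain ⟨hl, hP, -⟩ := pel_spec hk
    obtain ⟨hv, ht⟩ := st.index_of_conj hl (e ▸ hu)
    exact ⟨_, hl, (inE_laws hl).2.1 hP (isInv5_spec.1 hv).1, ht, e.symm⟩
  · refine (st.not_swap hu huz ?_).elim
    obtain ⟨hl, -, -⟩ := pel_spec hk
    subst e
    calc g * f (pel k) * s * (g * f (pel k))⁻¹ = g * (f (pel k) * s) * (f (pel k))⁻¹ * g⁻¹ := by group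
      _ = g * (s * f (pel k)) * (f (pel k))⁻¹ * g⁻¹ := by rw [h.comm_s hl]
      _ = g * s * g⁻¹ := by group
      _ = f aI := (st.swap.conj_s h).1

end CfsgLib.PSpFourThree
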