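import Cfsg.Agent.PSpFourThree.CentZ
import Cfsg.Agent.BaerSuzuki.Classes

/-!
The order of the group, by counting pairs of involutions: it is 25920.
-/

set_option autoImplicit false
set_option maxRecDepth 100000

namespace CfsgLib.PSpFourThree

open CfsgLib.CosetEnum (allBelow)
open CfsgLib.StronglyEmbedded (orderOf_two_iff orderOf_conj)

/-! ### Powers read off a table -/

/-- the powers of `x` -/
noncomputable def powN (op : ℕ → ℕ → ℕ) (x : ℕ) : ℕ → ℕ
  | 0 => 0
  | k + 1 => op (powN op x k) x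

/-- `w` is one of the first twelve powers of `x` -/
noncomputable def inPows (op : ℕ → ℕ → ℕ) (x w : ℕ) : Bool :=
  anyBelow (fun k => Nat.beq (powN op x k) w) 12

/-- the order of `x` is at most twelve -/
noncomputable def ordOK (op : ℕ → ℕ → ℕ) (x : ℕ) : Bool :=
  anyBelow (fun k => Nat.beq (powN op x (k + 1)) 0) 12

theorem inPows_iff {M : Type*} [Group M] {n : ℕ} (φ : ℕ → M) (op : ℕ → ℕ → ℕ)
    (hlt : ∀ a < n, ∀ b < n, op a b < n) (hop : ∀ a < n, ∀ b < n, φ (op a b) = φ a * φ b)
    (hn : 0 < n) (h0 : φ 0 = 1) (hinj : ∀ a < n, ∀ b < n, φ a = φ b → a = b)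
    {x w : ℕ} (hx : x < n) (hw : w < n) (hord : ordOK op x = true) :
    inPows op x w = true ↔ φ w ∈ Subgroup.zpowers (φ x) := by
  have hp : ∀ k, powN op x k < n ∧ φ (powN op x k) = φ x ^ k := by
    intro k
    induction k with
    | zero => exact ⟨hn, by rw [powN, h0, pow_zero]⟩
    | succ k ih => exact ⟨hlt _ ih.1 _ hx, by rw [powN, hop _ ih.1 _ hx, ih.2, pow_succ]⟩
  obtain ⟨m, hm12, hm⟩ : ∃ m < 12, φ x ^ (m + 1) = 1 := by
    obtain ⟨m, hm, e⟩ := anyBelow_spec hord
    exact ⟨m, hm, by rw [← (hp (m + 1)).2, beq_spec.1 e, h0]⟩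
  constructor
  · intro hin
    obtain ⟨k, -, e⟩ := anyBelow_spec hin
    rw [← beq_spec.1 e, (hp k).2]
    exact Subgroup.npow_mem_zpowers _ _
  · rintro ⟨z, hz⟩
    have hz : φ x ^ z = φ w := hz
    have hd : orderOf (φ x) ∣ m + 1 := orderOf_dvd_of_pow_eq_one hm
    have hpos : 0 < orderOf (φ x) := Nat.pos_of_dvd_of_pos hd (by omega)
    have hle : orderOf (φ x) ≤ 12 := (Nat.le_of_dvd (by omega) hd).trans (by omega)
    have h1 := Int.emod_nonneg z (b := (orderOf (φ x) : ℤ)) (by omega)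
    have h2 := Int.emod_lt_of_pos z (b := (orderOf (φ x) : ℤ)) (by omega)
    obtain ⟨k, hk⟩ := Int.eq_ofNat_of_zero_le h1
    have hkw : powN op x k = w := hinj _ (hp k).1 _ hw (by
      rw [(hp k).2, ← hz, ← zpow_natCast, ← hk, zpow_mod_orderOf])
    by_contra hnot
    rw [inPows, anyBelow, Bool.not_eq_true', Bool.not_eq_false] at hnot
    have := allBelow_spec hnot k (by omega)
    rw [hkw, beq_spec.2 rfl] at this
    exact Bool.noConfusion this

/-! ### The table of the centraliser of `zI` -/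

/-- the product of `g^e f(p)` and `g^e' f(q)` -/
noncomputable def mulM (c d : ℕ) : ℕ :=
  48 * ((c / 48 + d / 48) % 2) +
    pix (mul5 (bif Nat.beq (d / 48) 0 then pel (c % 48) else phi (pel (c % 48))) (pel (d % 48)))

/-- the numbered elements of the centraliser of `zI` -/
def elM {G : Type*} [Group G] (f : ℕ → G) (g : G) (c : ℕ) : G := g ^ (c / 48) * f (pel (c % 48))

/-- pairs at the centre -/
noncomputable def pairsT : List (ℕ × ℕ) :=
  (((List.range 576).filter fun i => isInv5 i && tTy i) ×ˢ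
    ((List.range 576).filter fun i => isInv5 i && !(tTy i))).filter
    fun e => inPows mul5 (mul5 e.1 e.2) tI

/-- the conjugates of the centre in the centraliser of `zI` -/
noncomputable def tInM (c : ℕ) : Bool :=
  Nat.blt c 48 && isInv5 (pel c) && tTy (pel c)

/-- pairs at `zI` -/
noncomputable def pairsZ : List (ℕ × ℕ) :=
  (((List.range 96).filter tInM) ×ˢ
    ((List.range 96).filter fun c => Nat.beq (mulM c c) 0 && !(Nat.beq c 0) && !(tInM c))).filter
    fun e => inPows mulM (mulM e.1 e.2) (pix zI)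

theorem pairs_check : pairsT.length = 108 ∧ pairsZ.length = 27 := by decide +kernel

theorem ord_check : allBelow (fun i => ordOK mul5 i) 576 = true ∧
    allBelow (fun i => ordOK mulM i) 96 = true ∧ pix zI < 48 ∧ pel (pix zI) = zI := by
  decide +kernel

theorem nodup_pairs : pairsT.Nodup ∧ pairsZ.Nodup :=
  ⟨(((List.nodup_range.filter _).product (List.nodup_range.filter _))).filter _,
    (((List.nodup_range.filter _).product (List.nodup_range.filter _))).filter _⟩

variable {G : Type*} [Group G] [Finite G] {f : ℕ → G} {s g : G} (st : Setup f s g)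
include st

omit [Finite G] in
theorem Setup.elM_laws {c : ℕ} (hc : c < 96) :
    elM f g c * f zI = f zI * elM f g c ∧
    ∀ d < 96, mulM c d < 96 ∧ elM f g (mulM c d) = elM f g c * elM f g d ∧
      (elM f g c = elM f g d → c = d) := by
  have h := st.emb
  obtain ⟨hgs, -, hgz⟩ := st.swap.conj_s h
  have hz := const_lt.2.2.1
  obtain ⟨hl, hP, -⟩ := pel_spec (show c % 48 < 48 by omega)
  have hgc : Commute g (f zI) := mul_inv_eq_iff_eq_mul.1 hgz
  have hpc : Commute (f (pel (c % 48))) (f zI) := (h.com_iff hl hz).1 ((inE_laws hl).2.2.1.1 hP)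
  refine ⟨((hgc.pow_left _).mul_left hpc).eq, fun d hd => ?_⟩
  obtain ⟨hl', hP', -⟩ := pel_spec (show d % 48 < 48 by omega)
  have hgg : ∀ k, g ^ k = g ^ (k % 2) := fun k => by
    conv_lhs => rw [← Nat.mod_add_div k 2, pow_add, pow_mul, pow_two, st.swap.sq, one_pow, mul_one]
  have hPmul : ∀ {a b}, a < 576 → b < 576 → inP a = true → inP b = true → inP (mul5 a b) = true := by
    intro a b ha' hb hA hB
    rw [h.inP_iff (mul5_lt ha' hb), h.mul _ ha' _ hb, mul_assoc, (h.inP_iff hb).1 hB, ← mul_assoc,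
      (h.inP_iff ha').1 hA, mul_assoc]
  set e := d / 48 with he
  have he2 : e = 0 ∨ e = 1 := by omega
  set p := bif Nat.beq e 0 then pel (c % 48) else phi (pel (c % 48)) with hp
  have hpl : p < 576 ∧ inP p = true ∧ f (pel (c % 48)) * g ^ e = g ^ e * f p := by
    rcases he2 with e0 | e0
    · rw [hp, e0]; exact ⟨hl, hP, by simp⟩
    · obtain ⟨a1, a2, -⟩ := phi_lt hl hP
      rw [hp, e0]
      refine ⟨a1, a2, ?_⟩
      show _ = g ^ 1 * f (phi (pel (c % 48)))
      rw [pow_one, ← st.swap.conj _ hl hP, st.swap.inv_eq, ← mul_assoc, ← mul_assoc, st.swap.sq,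
        one_mul]
  obtain ⟨p1', p2', p3'⟩ := hpl
  obtain ⟨k, hk, hke, hkx⟩ := exists_pel (mul5_lt p1' hl') (hPmul p1' hl' p2' hP')
  have hm : mulM c d = 48 * ((c / 48 + e) % 2) + k := by rw [mulM, ← hkx]
  refine ⟨by omega, ?_, fun heq => ?_⟩
  · rw [hm, elM, elM, elM, show (48 * ((c / 48 + e) % 2) + k) / 48 = (c / 48 + e) % 2 by omega,
      show (48 * ((c / 48 + e) % 2) + k) % 48 = k by omega, hke, h.mul _ p1' _ hl', ← hgg, pow_add,
      ← he]
    calc g ^ (c / 48) * g ^ e * (f p * f (pel (d % 48)))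
        = g ^ (c / 48) * (g ^ e * f p) * f (pel (d % 48)) := by group
      _ = _ := by rw [← p3']; group
  · have hout : ∀ {i j}, i < 576 → j < 576 → f i ≠ g * f j := by
      intro i j hi hj e'
      have : g = f i * (f j)⁻¹ := by rw [e']; group
      have hcs : g * s * g⁻¹ = s := by
        rw [this]
        have c1 : Commute (f i) s := h.comm_s hi
        have c2 : Commute (f j) s := h.comm_s hj
        exact mul_inv_eq_iff_eq_mul.2 (c1.mul_left c2.inv_left).eq
      rw [hgs, ← h.map_t] at hcs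
      exact absurd (h.inj _ const_lt.2.1 _ const_lt.1 hcs) (by decide)
    rw [elM, elM] at heq
    rcases (show c / 48 = 0 ∨ c / 48 = 1 by omega) with a | a <;> rcases he2 with b | b <;>
      rw [a, ← he, b] at heq <;> simp only [pow_zero, pow_one, one_mul] at heq
    · have := h.inj _ hl _ hl' heq
      have := congrArg pix this
      rw [(pel_spec (show c % 48 < 48 by omega)).2.2.1, (pel_spec (show d % 48 < 48 by omega)).2.2.1]
        at this
      omega
    · exact absurd heq (hout hl hl')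
    · exact absurd heq.symm (hout hl' hl)
    · have := h.inj _ hl _ hl' (mul_left_cancel heq)
      have := congrArg pix this
      rw [(pel_spec (show c % 48 < 48 by omega)).2.2.1, (pel_spec (show d % 48 < 48 by omega)).2.2.1]
        at this
      omega

omit [Finite G] in
theorem Setup.elM_zero : elM f g 0 = 1 := by
  rw [elM, show (0 : ℕ) / 48 = 0 from rfl, pow_zero, one_mul, show (0 : ℕ) % 48 = 0 from rfl,
    swap_consts.2.2.2.2.1, st.emb.map_zero]

theorem Setup.exists_elM {y : G} (hy : y * f zI = f zI * y) : ∃ c < 96, elM f g c = y := by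
  obtain ⟨k, hk, e | e⟩ := st.mem_centralizer_z hy
  · exact ⟨k, by omega, by rw [elM, show k / 48 = 0 by omega, show k % 48 = k by omega, pow_zero,
      one_mul, e]⟩
  · exact ⟨48 + k, by omega, by rw [elM, show (48 + k) / 48 = 1 by omega,
      show (48 + k) % 48 = k by omega, pow_one, e]⟩

theorem Setup.card_cent_z : Nat.card (Subgroup.centralizer ({f zI} : Set G)) = 96 := by
  refine (Nat.card_eq_of_bijective (fun c : Fin 96 => (⟨elM f g c,
    Subgroup.mem_centralizer_singleton_iff.mpr (st.elM_laws c.2).1⟩ :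
      Subgroup.centralizer ({f zI} : Set G))) ⟨fun a b e => ?_, fun y => ?_⟩).symm.trans (by simp)
  · exact Fin.ext (((st.elM_laws a.2).2 b b.2).2.2 (congrArg Subtype.val e))
  · obtain ⟨c, hc, e⟩ := st.exists_elM (Subgroup.mem_centralizer_singleton_iff.mp y.2)
    exact ⟨⟨c, hc⟩, Subtype.ext e⟩

omit [Finite G] in
/-- Conjugates of involutions square to one. -/
theorem Setup.sq_of_conj {a y : G} (ha : orderOf a = 2) (hc : IsConj a y) : y * y = 1 ∧ y ≠ 1 := by
  obtain ⟨b, rfl⟩ := isConj_iff.1 hc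
  exact orderOf_two_iff.1 (by rw [orderOf_conj, ha])

omit [Finite G] in
/-- A member of a pair commutes with the involution among the powers of the product. -/
theorem Setup.comm_pow {a b w : G} (ha : a * a = 1) (hb : b * b = 1) (hw : w * w = 1)
    (hm : w ∈ Subgroup.zpowers (a * b)) : a * w = w * a ∧ b * w = w * b := by
  have hwi : w⁻¹ = w := inv_eq_of_mul_eq_one_right hw
  obtain ⟨n, hn⟩ := hm
  have hn : (a * b) ^ n = w := hn
  have hab : Commute (a * b) w := hn ▸ (Commute.refl (a * b)).zpow_right n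
  have hai : a⁻¹ = a := inv_eq_of_mul_eq_one_right ha
  have hbi : b⁻¹ = b := inv_eq_of_mul_eq_one_right hb
  have h1 : a * w * a⁻¹ = w := by
    rw [← hn, ← conj_zpow, show a * (a * b) * a⁻¹ = (a * b)⁻¹ by
      rw [mul_inv_rev, hai, hbi, ← mul_assoc, ha, one_mul]]
    rw [inv_zpow, hn, hwi]
  have h2 : a * w = w * a := mul_inv_eq_iff_eq_mul.1 h1
  refine ⟨h2, ?_⟩
  calc b * w = a * (a * b * w) := by rw [mul_assoc a b w, ← mul_assoc, ha, one_mul]
    _ = a * (w * (a * b)) := by rw [hab.eq]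
    _ = (a * w) * a * b := by group
    _ = w * (a * a) * b := by rw [h2]; group
    _ = w * b := by rw [ha, mul_one]

theorem Setup.count_t : Nat.card {p : G × G // IsConj s p.1 ∧ IsConj (f zI) p.2 ∧
    s ∈ Subgroup.zpowers (p.1 * p.2)} = 108 := by
  classical
  have h := st.emb
  have hz2 := h.orderOf_invol const_lt.2.2.1 const_cls.2.2.1
  have hmem : ∀ {e : ℕ × ℕ}, e ∈ pairsT ↔ e.1 < 576 ∧ e.2 < 576 ∧
      (isInv5 e.1 = true ∧ tTy e.1 = true) ∧ (isInv5 e.2 = true ∧ tTy e.2 = false) ∧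
      inPows mul5 (mul5 e.1 e.2) tI = true := by
    rintro ⟨i, j⟩
    simp only [pairsT, List.mem_filter, List.mem_product, List.mem_range, Bool.and_eq_true,
      Bool.not_eq_true']
    tauto
  have hpow : ∀ {i}, i < 576 → (inPows mul5 i tI = true ↔ s ∈ Subgroup.zpowers (f i)) := by
    intro i hi
    rw [← h.map_t]
    exact inPows_iff f mul5 (fun a ha b hb => mul5_lt ha hb) h.mul (by norm_num) h.map_zero h.inj hi
      const_lt.1 (allBelow_spec ord_check.1 i hi)
  let φ : pairsT.toFinset → {p : G × G // IsConj s p.1 ∧ IsConj (f zI) p.2 ∧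
      s ∈ Subgroup.zpowers (p.1 * p.2)} := fun e => ⟨(f e.1.1, f e.1.2), by
    obtain ⟨h1, h2, h3, h4, h5⟩ := hmem.1 (List.mem_toFinset.1 e.2)
    refine ⟨(st.type_iff h1 h3.1).2 h3.2, (st.type_of h2 h4.1).2 h4.2, ?_⟩
    rw [← h.mul _ h1 _ h2]
    exact (hpow (mul5_lt h1 h2)).1 h5⟩
  have hφ : Function.Bijective φ := by
    constructor
    · intro a b e
      obtain ⟨a1, a2, -⟩ := hmem.1 (List.mem_toFinset.1 a.2)
      obtain ⟨b1, b2, -⟩ := hmem.1 (List.mem_toFinset.1 b.2)
      have e' := congrArg Subtype.val e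
      exact Subtype.ext (Prod.ext (h.inj _ a1 _ b1 (congrArg Prod.fst e'))
        (h.inj _ a2 _ b2 (congrArg Prod.snd e')))
    · rintro ⟨⟨a, b⟩, ha, hb, hab⟩
      obtain ⟨ca, cb⟩ := st.comm_pow (st.sq_of_conj h.orderOf_s ha).1 (st.sq_of_conj hz2 hb).1
        (orderOf_two_iff.1 h.orderOf_s).1 hab
      obtain ⟨i, hi, rfl⟩ := h.surj a ca
      obtain ⟨j, hj, rfl⟩ := h.surj b cb
      obtain ⟨j', hj', hv', he'⟩ := h.exists_invol (y := f j)
        (orderOf_two_iff.2 (st.sq_of_conj hz2 hb)) (h.comm_s hj)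
      rw [h.inj j' hj' j hj he'] at hv'
      have htj : tTy j = false := by
        rw [← Bool.not_eq_true]
        exact fun e => st.not_z (((st.type_iff hj hv').2 e).trans hb.symm)
      refine ⟨⟨(i, j), List.mem_toFinset.2 (hmem.2 ⟨hi, hj, st.index_of_conj hi ha, ⟨hv', htj⟩,
        ?_⟩)⟩, rfl⟩
      refine (hpow (mul5_lt hi hj)).2 ?_
      rw [h.mul _ hi _ hj]
      exact hab
  rw [← Nat.card_eq_of_bijective φ hφ, Nat.card_eq_fintype_card, Fintype.card_coe,
    List.toFinset_card_of_nodup nodup_pairs.1, pairs_check.1]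

theorem Setup.count_z : Nat.card {p : G × G // IsConj s p.1 ∧ IsConj (f zI) p.2 ∧
    f zI ∈ Subgroup.zpowers (p.1 * p.2)} = 27 := by
  classical
  have h := st.emb
  have hz2 := h.orderOf_invol const_lt.2.2.1 const_cls.2.2.1
  obtain ⟨-, hord, hzk, hzp⟩ := ord_check
  have hlaw := fun c (hc : c < 96) d (hd : d < 96) => ((st.elM_laws hc).2 d hd)
  have hinj : ∀ c < 96, ∀ d < 96, elM f g c = elM f g d → c = d := fun c hc d hd =>
    (hlaw c hc d hd).2.2
  have hzM : elM f g (pix zI) = f zI := by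
    rw [elM, show pix zI / 48 = 0 by omega, show pix zI % 48 = pix zI by omega, pow_zero, one_mul,
      hzp]
  have ht : ∀ c < 96, (tInM c = true ↔ IsConj s (elM f g c)) := by
    intro c hc
    constructor
    · intro e
      simp only [tInM, Bool.and_eq_true, blt_spec] at e
      rw [elM, show c / 48 = 0 by omega, show c % 48 = c by omega, pow_zero, one_mul]
      exact (st.type_iff (pel_spec e.1.1).1 e.1.2).2 e.2
    · intro e
      obtain ⟨j, hj, hE, htj, hje⟩ := st.conj_in_cent e (st.elM_laws hc).1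
      obtain ⟨k, hk, rfl⟩ := (inE_laws hj).1 hE
      obtain ⟨l, hl, hle, -⟩ := exists_pel (eI_lt hk) (eI_laws hk).2.1
      have : l = c := hinj l (by omega) c hc (by
        rw [← hje, elM, show l / 48 = 0 by omega, show l % 48 = l by omega, pow_zero, one_mul, hle])
      subst this
      rw [tInM, hle, blt_spec.2 hl, htj, (st.index_of_conj hj (hje ▸ e)).1]
      rfl
  have hmem : ∀ {e : ℕ × ℕ}, e ∈ pairsZ ↔ e.1 < 96 ∧ e.2 < 96 ∧ tInM e.1 = true ∧
      (mulM e.2 e.2 = 0 ∧ e.2 ≠ 0 ∧ tInM e.2 = false) ∧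
      inPows mulM (mulM e.1 e.2) (pix zI) = true := by
    rintro ⟨i, j⟩
    simp only [pairsZ, List.mem_filter, List.mem_product, List.mem_range, Bool.and_eq_true,
      Bool.not_eq_true', beq_spec, beq_false_spec]
    tauto
  have hpow : ∀ {c}, c < 96 →
      (inPows mulM c (pix zI) = true ↔ f zI ∈ Subgroup.zpowers (elM f g c)) := by
    intro c hc
    rw [← hzM]
    exact inPows_iff (elM f g) mulM (fun a ha b hb => (hlaw a ha b hb).1)
      (fun a ha b hb => (hlaw a ha b hb).2.1) (by norm_num) st.elM_zero hinj hc (by omega)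
      (allBelow_spec hord c hc)
  let φ : pairsZ.toFinset → {p : G × G // IsConj s p.1 ∧ IsConj (f zI) p.2 ∧
      f zI ∈ Subgroup.zpowers (p.1 * p.2)} := fun e => ⟨(elM f g e.1.1, elM f g e.1.2), by
    obtain ⟨h1, h2, h3, ⟨h4, h5, h6⟩, h7⟩ := hmem.1 (List.mem_toFinset.1 e.2)
    refine ⟨(ht _ h1).1 h3, ?_, ?_⟩
    · have hord2 : orderOf (elM f g e.1.2) = 2 := orderOf_two_iff.2
        ⟨by rw [← (hlaw _ h2 _ h2).2.1, h4, st.elM_zero],
          fun e' => h5 (hinj _ h2 0 (by norm_num) (e'.trans st.elM_zero.symm))⟩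
      refine (st.two_classes hord2).resolve_left fun e' => ?_
      rw [(ht _ h2).2 e'] at h6
      exact Bool.noConfusion h6
    · rw [← (hlaw _ h1 _ h2).2.1]
      exact (hpow (hlaw _ h1 _ h2).1).1 h7⟩
  have hφ : Function.Bijective φ := by
    constructor
    · intro a b e
      obtain ⟨a1, a2, -⟩ := hmem.1 (List.mem_toFinset.1 a.2)
      obtain ⟨b1, b2, -⟩ := hmem.1 (List.mem_toFinset.1 b.2)
      have e' := congrArg Subtype.val e
      exact Subtype.ext (Prod.ext (hinj _ a1 _ b1 (congrArg Prod.fst e'))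
        (hinj _ a2 _ b2 (congrArg Prod.snd e')))
    · rintro ⟨⟨a, b⟩, ha, hb, hab⟩
      obtain ⟨hb1, hb0⟩ := st.sq_of_conj hz2 hb
      obtain ⟨ca, cb⟩ := st.comm_pow (st.sq_of_conj h.orderOf_s ha).1 hb1
        (orderOf_two_iff.1 hz2).1 hab
      obtain ⟨i, hi, rfl⟩ := st.exists_elM ca
      obtain ⟨j, hj, rfl⟩ := st.exists_elM cb
      have htj : tInM j = false := by
        rw [← Bool.not_eq_true]
        exact fun e => st.not_z (((ht j hj).1 e).trans hb.symm)
      refine ⟨⟨(i, j), List.mem_toFinset.2 (hmem.2 ⟨hi, hj, (ht i hi).2 ha,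
        ⟨hinj _ (hlaw j hj j hj).1 0 (by norm_num) (by rw [(hlaw j hj j hj).2.1, hb1, st.elM_zero]),
          fun e => hb0 (by have e : j = 0 := e; show elM f g j = 1; rw [e, st.elM_zero]), htj⟩, ?_⟩)⟩, rfl⟩
      refine (hpow (hlaw i hi j hj).1).2 ?_
      rw [(hlaw i hi j hj).2.1]
      exact hab
  rw [← Nat.card_eq_of_bijective φ hφ, Nat.card_eq_fintype_card, Fintype.card_coe,
    List.toFinset_card_of_nodup nodup_pairs.2, pairs_check.2]

/-- The order of the group. -/
theorem Setup.card_group : Nat.card G = 25920 := by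
  rw [BaerSuzuki.order_formula st.emb.orderOf_s
    (st.emb.orderOf_invol const_lt.2.2.1 const_cls.2.2.1) st.not_z (fun y hy => st.two_classes hy),
    st.card_cent_z, st.count_t, st.emb.card_centralizer, st.count_z]

end CfsgLib.PSpFourThree
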