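import Cfsg.Agent.PSpFourThree.Model
import Cfsg.Agent.StronglyEmbedded.Basic

/-!
Checked facts about the numbered centraliser, and the first consequences for a numbering.
-/

set_option autoImplicit false
set_option maxRecDepth 100000

namespace CfsgLib.PSpFourThree

open CfsgLib.CosetEnum (allBelow)
open CfsgLib.StronglyEmbedded (orderOf_two_iff orderOf_conj)

theorem const_lt : tI < 576 ∧ aI < 576 ∧ zI < 576 ∧ iI < 576 ∧ uG < 576 ∧ vG < 576 ∧
    p1 < 576 ∧ p2 < 576 ∧ dR < 576 ∧ aR < 576 ∧ rR < 576 ∧ yR < 576 := by decide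

theorem unit_check : allBelow (fun i => Nat.blt (inv5 i) 576 && Nat.beq (mul5 i (inv5 i)) 0 &&
    Nat.beq (mul5 i 0) i && Nat.beq (mul5 0 i) i && com5 i tI &&
    impB (isInv5 i) (Nat.beq (cls5 i) 1 || Nat.beq (cls5 i) 2 || Nat.beq (cls5 i) 3 ||
      Nat.beq (cls5 i) 4) &&
    impB (Nat.beq (cls5 i) 1) (Nat.beq i tI) &&
    impB (!(Nat.beq (cls5 i) 0)) (isInv5 i)) 576 = true := by decide +kernel

theorem inv5_lt {i : ℕ} (hi : i < 576) : inv5 i < 576 ∧ mul5 i (inv5 i) = 0 ∧ mul5 i 0 = i ∧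
    mul5 0 i = i ∧ com5 i tI = true := by
  have := allBelow_spec unit_check i hi
  simp only [Bool.and_eq_true, beq_spec, blt_spec] at this
  exact ⟨this.1.1.1.1.1.1.1, this.1.1.1.1.1.1.2, this.1.1.1.1.1.2, this.1.1.1.1.2, this.1.1.1.2⟩

theorem mul5_lt {i j : ℕ} (hi : i < 576) (hj : j < 576) : mul5 i j < 576 := (el_mul hi hj).1

theorem cj5_lt {a b : ℕ} (ha : a < 576) (hb : b < 576) : cj5 a b < 576 :=
  mul5_lt (mul5_lt ha hb) (inv5_lt ha).1

theorem com5_spec {a b : ℕ} : com5 a b = true ↔ mul5 a b = mul5 b a := beq_spec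

theorem isInv5_spec {i : ℕ} : isInv5 i = true ↔ mul5 i i = 0 ∧ i ≠ 0 := by
  simp [isInv5, beq_spec, beq_false_spec]

theorem class_check : allBelow (fun i =>
    impB (Nat.beq (cls5 i) 2) (anyBelow (fun l => Nat.beq (cj5 l iI) i) 576) &&
    impB (Nat.beq (cls5 i) 3) (anyBelow (fun l => Nat.beq (cj5 l aI) i) 576) &&
    impB (Nat.beq (cls5 i) 4) (anyBelow (fun l => Nat.beq (cj5 l zI) i) 576)) 576 = true := by
  decide +kernel

theorem const_cls : isInv5 tI = true ∧ isInv5 aI = true ∧ isInv5 zI = true ∧ isInv5 iI = true ∧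
    cls5 tI = 1 ∧ cls5 aI = 3 ∧ cls5 zI = 4 ∧ cls5 iI = 2 ∧ mul5 tI aI = zI := by
  decide +kernel

/-- The classes of involutions. -/
theorem inv_classes {i : ℕ} (hi : i < 576) (h : isInv5 i = true) :
    i = tI ∨ cls5 i = 2 ∨ cls5 i = 3 ∨ cls5 i = 4 := by
  have := allBelow_spec unit_check i hi
  simp only [Bool.and_eq_true] at this
  have h1 := impB_spec this.1.1.2 h
  simp only [Bool.or_eq_true, beq_spec] at h1
  rcases h1 with ((e | e) | e) | e
  · exact .inl (beq_spec.1 (impB_spec this.1.2 (beq_spec.2 e)))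
  · exact .inr (.inl e)
  · exact .inr (.inr (.inl e))
  · exact .inr (.inr (.inr e))

theorem isInv_of_cls {i : ℕ} (hi : i < 576) (h : cls5 i ≠ 0) : isInv5 i = true := by
  have := allBelow_spec unit_check i hi
  simp only [Bool.and_eq_true] at this
  exact impB_spec this.2 (by rw [Bool.not_eq_true', beq_false_spec]; exact h)

/-- the representative of a class -/
def repI (c : ℕ) : ℕ := if c = 2 then iI else if c = 3 then aI else if c = 4 then zI else tI

theorem repI_lt (c : ℕ) : repI c < 576 := by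
  unfold repI; split_ifs <;> decide

/-- Members of one class are conjugate. -/
theorem cls_conj {i : ℕ} (hi : i < 576) (hv : isInv5 i = true) :
    ∃ l < 576, cj5 l (repI (cls5 i)) = i := by
  have := allBelow_spec class_check i hi
  simp only [Bool.and_eq_true] at this
  have key : ∀ {c r}, cls5 i = c → repI c = r → anyBelow (fun l => Nat.beq (cj5 l r) i) 576 = true →
      ∃ l < 576, cj5 l (repI (cls5 i)) = i := fun hc hr hh => by
    obtain ⟨l, hl, e⟩ := anyBelow_spec hh
    exact ⟨l, hl, by rw [hc, hr]; exact beq_spec.1 e⟩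
  rcases inv_classes hi hv with e | e | e | e
  · subst e
    exact ⟨0, by norm_num, by decide +kernel⟩
  · exact key e rfl (impB_spec this.1.1 (beq_spec.2 e))
  · exact key e rfl (impB_spec this.1.2 (beq_spec.2 e))
  · exact key e rfl (impB_spec this.2 (beq_spec.2 e))

theorem sylow_check : (allBelow (fun i => impB (inS i)
      (allBelow (fun j => impB (inS j) (inS (mul5 i j))) 576 && inS (inv5 i))) 576 &&
    inS 0 && inS tI && inS aI && inS zI && inQ 0 && inQ iI && !(inQ aI) && !(inQ zI) &&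
    allBelow (fun i => impB (inQ i) (inS i && inQ (inv5 i) &&
      allBelow (fun j => impB (inQ j) (inQ (mul5 i j))) 576 &&
      impB (isInv5 i) (Nat.beq i tI || Nat.beq (cls5 i) 2))) 576 &&
    Nat.beq ((List.range 576).filter inS).length 64 &&
    Nat.beq ((List.range 576).filter inQ).length 32 &&
    allBelow (fun i => Nat.beq i 0 || Nat.beq i tI || !(inS i) ||
      anyBelow (fun j => inS j && !(com5 i j)) 576) 576) = true := by
  decide +kernel

variable {G : Type*} [Group G] {f : ℕ → G} {s : G}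

theorem Emb5.map_zero (h : Emb5 f s) : f 0 = 1 := by
  have := h.mul 0 (by norm_num) 0 (by norm_num)
  rwa [(inv5_lt (i := 0) (by norm_num)).2.2.2.1, left_eq_mul] at this

theorem Emb5.map_inv (h : Emb5 f s) {i : ℕ} (hi : i < 576) : f (inv5 i) = (f i)⁻¹ :=
  eq_inv_of_mul_eq_one_right
    (by rw [← h.mul i hi _ (inv5_lt hi).1, (inv5_lt hi).2.1, h.map_zero])

theorem Emb5.map_cj (h : Emb5 f s) {a b : ℕ} (ha : a < 576) (hb : b < 576) :
    f (cj5 a b) = f a * f b * (f a)⁻¹ := by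
  rw [cj5, h.mul _ (mul5_lt ha hb) _ (inv5_lt ha).1, h.mul a ha b hb, h.map_inv ha]

theorem Emb5.com_iff (h : Emb5 f s) {a b : ℕ} (ha : a < 576) (hb : b < 576) :
    com5 a b = true ↔ f a * f b = f b * f a := by
  rw [com5_spec, ← h.mul a ha b hb, ← h.mul b hb a ha]
  exact ⟨fun e => by rw [e], fun e => h.inj _ (mul5_lt ha hb) _ (mul5_lt hb ha) e⟩

theorem Emb5.comm_s (h : Emb5 f s) {i : ℕ} (hi : i < 576) : f i * s = s * f i := by
  rw [← h.map_t]
  exact (h.com_iff hi const_lt.1).1 (inv5_lt hi).2.2.2.2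

theorem Emb5.orderOf_invol (h : Emb5 f s) {i : ℕ} (hi : i < 576) (hv : isInv5 i = true) :
    orderOf (f i) = 2 := by
  obtain ⟨h0, hne⟩ := isInv5_spec.1 hv
  refine orderOf_two_iff.2 ⟨by rw [← h.mul i hi i hi, h0, h.map_zero], fun e => hne ?_⟩
  exact h.inj i hi 0 (by norm_num) (by rw [e, h.map_zero])

theorem Emb5.orderOf_s (h : Emb5 f s) : orderOf s = 2 := by
  rw [← h.map_t]
  exact h.orderOf_invol const_lt.1 const_cls.1

theorem Emb5.exists_invol (h : Emb5 f s) {y : G} (hy : orderOf y = 2) (hc : y * s = s * y) :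
    ∃ i < 576, isInv5 i = true ∧ f i = y := by
  obtain ⟨i, hi, rfl⟩ := h.surj y hc
  obtain ⟨h1, h2⟩ := orderOf_two_iff.1 hy
  refine ⟨i, hi, isInv5_spec.2 ⟨h.inj _ (mul5_lt hi hi) 0 (by norm_num)
    (by rw [h.mul i hi i hi, h1, h.map_zero]), fun e => h2 ?_⟩, rfl⟩
  rw [e, h.map_zero]

theorem Emb5.isConj_rep (h : Emb5 f s) {i : ℕ} (hi : i < 576) (hv : isInv5 i = true) :
    IsConj (f (repI (cls5 i))) (f i) := by
  obtain ⟨l, hl, e⟩ := cls_conj hi hv
  conv_rhs => rw [← e, h.map_cj hl (repI_lt _)]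
  exact isConj_iff.mpr ⟨f l, rfl⟩

theorem Emb5.card_centralizer (h : Emb5 f s) :
    Nat.card (Subgroup.centralizer ({s} : Set G)) = 576 := by
  refine (Nat.card_eq_of_bijective (fun i : Fin 576 => (⟨f i,
    Subgroup.mem_centralizer_singleton_iff.mpr (h.comm_s i.2)⟩ :
      Subgroup.centralizer ({s} : Set G))) ⟨fun i j e => ?_, fun y => ?_⟩).symm.trans (by simp)
  · exact Fin.ext (h.inj i i.2 j j.2 (congrArg Subtype.val e))
  · obtain ⟨i, hi, e⟩ := h.surj y (Subgroup.mem_centralizer_singleton_iff.mp y.2)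
    exact ⟨⟨i, hi⟩, Subtype.ext e⟩

/-- The image of a set of indices closed under the operations. -/
def Emb5.image (h : Emb5 f s) (p : ℕ → Bool) (h0 : p 0 = true)
    (hm : ∀ i < 576, ∀ j < 576, p i = true → p j = true → p (mul5 i j) = true)
    (hi' : ∀ i < 576, p i = true → p (inv5 i) = true) : Subgroup G where
  carrier := {y | ∃ i < 576, p i = true ∧ f i = y}
  one_mem' := ⟨0, by norm_num, h0, h.map_zero⟩
  mul_mem' := fun {a b} ⟨i, hi, h1, e1⟩ ⟨j, hj, h2, e2⟩ =>
    ⟨mul5 i j, mul5_lt hi hj, hm i hi j hj h1 h2, by rw [h.mul i hi j hj, e1, e2]⟩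
  inv_mem' := fun {a} ⟨i, hi, h1, e1⟩ =>
    ⟨inv5 i, (inv5_lt hi).1, hi' i hi h1, by rw [h.map_inv hi, e1]⟩

theorem Emb5.card_image (h : Emb5 f s) {p : ℕ → Bool} (h0 : p 0 = true)
    (hm : ∀ i < 576, ∀ j < 576, p i = true → p j = true → p (mul5 i j) = true)
    (hi' : ∀ i < 576, p i = true → p (inv5 i) = true) :
    Nat.card (h.image p h0 hm hi') = ((List.range 576).filter p).length := by
  classical
  refine (Nat.card_eq_of_bijective (fun i : ((List.range 576).filter p).toFinset => (⟨f i.1, by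
      have := i.2
      rw [List.mem_toFinset, List.mem_filter, List.mem_range] at this
      exact ⟨i.1, this.1, this.2, rfl⟩⟩ : h.image p h0 hm hi')) ⟨fun i j e => ?_, fun y => ?_⟩).symm.trans
    (by rw [Nat.card_eq_finsetCard, List.toFinset_card_of_nodup (List.nodup_range.filter _)])
  · have hi := i.2
    have hj := j.2
    rw [List.mem_toFinset, List.mem_filter, List.mem_range] at hi hj
    exact Subtype.ext (h.inj _ hi.1 _ hj.1 (congrArg Subtype.val e))
  · obtain ⟨i, hi, h1, e⟩ := y.2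
    exact ⟨⟨i, by rw [List.mem_toFinset, List.mem_filter, List.mem_range]; exact ⟨hi, h1⟩⟩,
      Subtype.ext e⟩

theorem sylow_laws :
    (inS 0 = true ∧ inS tI = true ∧ inS aI = true ∧ inS zI = true) ∧
    (∀ i < 576, ∀ j < 576, inS i = true → inS j = true → inS (mul5 i j) = true) ∧
    (∀ i < 576, inS i = true → inS (inv5 i) = true) ∧
    ((List.range 576).filter inS).length = 64 ∧
    (∀ i < 576, inS i = true → (∀ j < 576, inS j = true → com5 i j = true) → i = 0 ∨ i = tI) := by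
  have h := sylow_check
  simp only [Bool.and_eq_true, beq_spec] at h
  obtain ⟨⟨⟨⟨⟨⟨⟨⟨⟨⟨⟨⟨h1, h2⟩, h3⟩, h4⟩, h5⟩, -⟩, -⟩, -⟩, -⟩, -⟩, h6⟩, -⟩, h7⟩ := h
  refine ⟨⟨h2, h3, h4, h5⟩, fun i hi j hj a b => ?_, fun i hi a => ?_, h6, fun i hi a hc => ?_⟩
  · have := impB_spec (allBelow_spec h1 i hi) a
    rw [Bool.and_eq_true] at this
    exact impB_spec (allBelow_spec this.1 j hj) b
  · have := impB_spec (allBelow_spec h1 i hi) a
    rw [Bool.and_eq_true] at this
    exact this.2
  · have := allBelow_spec h7 i hi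
    simp only [Bool.or_eq_true, beq_spec, a, Bool.not_true, Bool.false_eq_true, or_false] at this
    rcases this with (e | e) | e
    · exact .inl e
    · exact .inr e
    · obtain ⟨j, hj, e⟩ := anyBelow_spec e
      rw [Bool.and_eq_true] at e
      rw [hc j hj e.1] at e
      exact absurd e.2 (by simp)

theorem inner_laws :
    (inQ 0 = true ∧ inQ iI = true ∧ inQ aI = false ∧ inQ zI = false) ∧
    (∀ i < 576, inQ i = true → inS i = true) ∧
    (∀ i < 576, ∀ j < 576, inQ i = true → inQ j = true → inQ (mul5 i j) = true) ∧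
    (∀ i < 576, inQ i = true → inQ (inv5 i) = true) ∧
    ((List.range 576).filter inQ).length = 32 ∧
    (∀ i < 576, inQ i = true → isInv5 i = true → i = tI ∨ cls5 i = 2) := by
  have h := sylow_check
  simp only [Bool.and_eq_true, beq_spec, Bool.not_eq_true'] at h
  obtain ⟨⟨⟨⟨⟨⟨⟨⟨⟨⟨⟨⟨-, -⟩, -⟩, -⟩, -⟩, h2⟩, h3⟩, h4⟩, h5⟩, h1⟩, -⟩, h6⟩, -⟩ := h
  have h' : ∀ i < 576, inQ i = true → _ := fun i hi a => impB_spec (allBelow_spec h1 i hi) a
  simp only [Bool.and_eq_true] at h'
  refine ⟨⟨h2, h3, h4, h5⟩, fun i hi a => (h' i hi a).1.1.1, fun i hi j hj a b => ?_,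
    fun i hi a => (h' i hi a).1.1.2, h6, fun i hi a v => ?_⟩
  · exact impB_spec (allBelow_spec (h' i hi a).1.2 j hj) b
  · simpa [Bool.or_eq_true, beq_spec] using impB_spec (h' i hi a).2 v

/-- The Sylow 2-subgroup inside the centraliser. -/
def Emb5.sylow (h : Emb5 f s) : Subgroup G :=
  h.image inS sylow_laws.1.1 sylow_laws.2.1 sylow_laws.2.2.1

/-- The inner subgroup of index 2. -/
def Emb5.inner (h : Emb5 f s) : Subgroup G :=
  h.image inQ inner_laws.1.1 inner_laws.2.2.1 inner_laws.2.2.2.1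

variable [Finite G]

theorem Emb5.exists_sylow_eq (h : Emb5 f s) : ∃ T : Sylow 2 G, (T : Subgroup G) = h.sylow := by
  haveI : Fact (Nat.Prime 2) := ⟨Nat.prime_two⟩
  have hS : Nat.card h.sylow = 64 := (h.card_image ..).trans sylow_laws.2.2.2.1
  obtain ⟨T, hT⟩ := (IsPGroup.of_card (n := 6) (by rw [hS]; norm_num) :
    IsPGroup 2 h.sylow).exists_le_sylow
  refine ⟨T, (hT.antisymm ?_).symm⟩
  haveI : Group.IsNilpotent (T : Subgroup G) := T.2.isNilpotent
  obtain ⟨v, hv1, hv2⟩ : ∃ v ∈ Subgroup.center (T : Subgroup G), v ≠ 1 := by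
    haveI : Nontrivial (T : Subgroup G) := by
      refine ⟨⟨⟨1, one_mem _⟩, ⟨s, hT ⟨tI, const_lt.1, sylow_laws.1.2.1, h.map_t⟩⟩, fun e => ?_⟩⟩
      exact (orderOf_two_iff.1 h.orderOf_s).2 (congrArg Subtype.val e).symm
    haveI := T.2.center_nontrivial
    obtain ⟨v, hv⟩ := exists_ne (1 : Subgroup.center (T : Subgroup G))
    exact ⟨v, v.2, fun e => hv (Subtype.ext e)⟩
  have hcom : ∀ y ∈ (T : Subgroup G), (v : G) * y = y * v := fun y hy =>
    (congrArg Subtype.val (Subgroup.mem_center_iff.1 hv1 ⟨y, hy⟩)).symm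
  have hsT : s ∈ (T : Subgroup G) := hT ⟨tI, const_lt.1, sylow_laws.1.2.1, h.map_t⟩
  obtain ⟨i, hi, hie⟩ := h.surj v (hcom s hsT)
  -- the centre lies in the numbered subgroup
  have hiS : inS i = true := by
    by_contra hn
    set K := h.sylow ⊔ Subgroup.zpowers (v : G)
    have hKT : K ≤ (T : Subgroup G) := sup_le hT (Subgroup.zpowers_le.2 v.2)
    have hKC : K ≤ Subgroup.centralizer ({s} : Set G) := by
      refine sup_le ?_ (Subgroup.zpowers_le.2
        (Subgroup.mem_centralizer_singleton_iff.mpr (hcom s hsT)))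
      rintro y ⟨j, hj, -, rfl⟩
      exact Subgroup.mem_centralizer_singleton_iff.mpr (h.comm_s hj)
    obtain ⟨m, hm⟩ := IsPGroup.iff_card.1 (T.2.to_le hKT)
    have hd : 2 ^ m ∣ 576 := hm ▸ h.card_centralizer ▸ Subgroup.card_dvd_of_le hKC
    have hlt : 64 < 2 ^ m := by
      rw [← hm, ← hS]
      refine lt_of_le_of_ne (Subgroup.card_le_of_le le_sup_left) fun e => hn ?_
      have hmem : (v : G) ∈ h.sylow := by
        rw [Subgroup.eq_of_le_of_card_ge (le_sup_left : h.sylow ≤ K) e.ge]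
        exact Subgroup.mem_sup_right (Subgroup.mem_zpowers _)
      obtain ⟨j, hj, hjS, hje⟩ := hmem
      rwa [← h.inj j hj i hi (hje.trans hie.symm)]
    have : m ≤ 6 := by
      by_contra h7
      exact absurd ((pow_dvd_pow 2 (show 7 ≤ m by omega)).trans hd) (by norm_num)
    have : 2 ^ m ≤ 2 ^ 6 := Nat.pow_le_pow_right (by norm_num) this
    omega
  have hi2 : i = 0 ∨ i = tI := sylow_laws.2.2.2.2 i hi hiS fun j hj hjS =>
    (h.com_iff hi hj).2 (by rw [hie]; exact hcom _ (hT ⟨j, hj, hjS, rfl⟩))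
  have hvs : (v : G) = s := by
    rcases hi2 with rfl | rfl
    · exact absurd (Subtype.ext (hie.symm.trans h.map_zero)) hv2
    · exact hie.symm.trans h.map_t
  intro y hy
  set K := (T : Subgroup G)
  have hKC : K ≤ Subgroup.centralizer ({s} : Set G) := fun z hz =>
    Subgroup.mem_centralizer_singleton_iff.mpr (by rw [← hvs]; exact (hcom z hz).symm)
  obtain ⟨m, hm⟩ := IsPGroup.iff_card.1 T.2
  have hd : 2 ^ m ∣ 576 := hm ▸ h.card_centralizer ▸ Subgroup.card_dvd_of_le hKC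
  have hm6 : m ≤ 6 := by
    by_contra h7
    exact absurd ((pow_dvd_pow 2 (show 7 ≤ m by omega)).trans hd) (by norm_num)
  rw [Subgroup.eq_of_le_of_card_ge hT (by
    rw [hS, hm]; exact le_trans (Nat.pow_le_pow_right (by norm_num) hm6) (le_of_eq (by norm_num)))]
  exact hy

end CfsgLib.PSpFourThree
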