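import Cfsg.Agent.PSpFourThree.Facts
import Cfsg.Agent.ZStar.Theorem
import Cfsg.Agent.Transfer.ThompsonTransfer

/-!
The central involution is fused to an outer one: otherwise `G` would have a subgroup of index 2.
-/

set_option autoImplicit false
set_option maxRecDepth 100000

namespace CfsgLib.PSpFourThree

open CfsgLib.CosetEnum (allBelow)
open CfsgLib.StronglyEmbedded (orderOf_two_iff orderOf_conj)

variable {G : Type*} [Group G] {f : ℕ → G} {s : G}

theorem alpha_check : allBelow (fun i => Nat.blt (mul5 i tI) 576 &&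
    impB (Nat.beq (cls5 i) 3) (Nat.beq (cls5 (mul5 i tI)) 4) &&
    impB (Nat.beq (cls5 i) 4) (Nat.beq (cls5 (mul5 i tI)) 3)) 576 = true := by
  decide +kernel

/-- The numbering twisted by the automorphism exchanging the two outer classes. -/
def twist (f : ℕ → G) (s : G) (i : ℕ) : G := f i * s ^ (i / 288)

theorem mul5_layer {i j : ℕ} (hi : i < 576) (hj : j < 576) :
    (i / 288 + j / 288) % 2 = mul5 i j / 288 := by
  have hS : ∀ {a b}, a < 24 → b < 24 → mS a b < 24 := fun ha hb => (factor_laws ha hb).1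
  have hn : ∀ {x a b}, a < 24 → b < 24 → norm3 x a b / 288 = x := by
    intro x a b ha hb
    rw [norm3]
    by_cases h : b < 12
    · rw [blt_spec.2 h, cond_true]; omega
    · rw [blt_false_spec.2 (by omega), cond_false]; omega
  rw [mul5]
  by_cases h : i < 288
  · rw [blt_spec.2 h, cond_true, hn (hS (by omega) (by omega)) (hS (by omega) (by omega))]
    omega
  · rw [blt_false_spec.2 (by omega), cond_false,
      hn (hS (by omega) (by omega)) (hS (by omega) (by omega))]
    omega

theorem Emb5.twist (h : Emb5 f s) : Emb5 (PSpFourThree.twist f s) s := by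
  have hs := (orderOf_two_iff.1 h.orderOf_s).1
  have hpow : ∀ {k}, s ^ k = s ^ (k % 2) := fun {k} => by
    rw [← h.orderOf_s, pow_mod_orderOf]
  refine ⟨fun i hi j hj => ?_, fun i hi j hj e => ?_, fun y hy => ?_, ?_⟩
  · show f _ * s ^ _ = f i * s ^ (i / 288) * (f j * s ^ (j / 288))
    rw [← mul5_layer hi hj, ← hpow, h.mul i hi j hj]
    have hc : Commute (s ^ (i / 288)) (f j) := (Commute.pow_right (h.comm_s hj) _).symm
    rw [pow_add]
    calc f i * f j * (s ^ (i / 288) * s ^ (j / 288))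
        = f i * (f j * s ^ (i / 288)) * s ^ (j / 288) := by group
      _ = f i * (s ^ (i / 288) * f j) * s ^ (j / 288) := by rw [hc.eq]
      _ = _ := by group
  · have e' : f i * s ^ (i / 288) = f j * s ^ (j / 288) := e
    have ht := (inv5_lt (i := j) hj).2.2.2.2
    -- the layers agree, as multiplication by `s` keeps them
    have hlay : ∀ {k}, k < 576 → mul5 k tI / 288 = k / 288 := fun {k} hk => by
      rw [← mul5_layer hk const_lt.1]
      show (k / 288 + 144 / 288) % 2 = k / 288
      omega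
    rcases (show i / 288 = 0 ∨ i / 288 = 1 by omega) with a | a <;>
      rcases (show j / 288 = 0 ∨ j / 288 = 1 by omega) with b | b <;>
      rw [a, b] at e'
    · simp at e'; exact h.inj i hi j hj e'
    · simp only [pow_zero, mul_one, pow_one, ← h.map_t, ← h.mul j hj _ const_lt.1] at e'
      have := h.inj i hi _ (mul5_lt hj const_lt.1) e'
      rw [this, hlay hj] at a
      omega
    · simp only [pow_zero, mul_one, pow_one, ← h.map_t, ← h.mul i hi _ const_lt.1] at e'
      have := h.inj _ (mul5_lt hi const_lt.1) j hj e'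
      rw [← this, hlay hi] at b
      omega
    · exact h.inj i hi j hj (mul_right_cancel e')
  · obtain ⟨i, hi, rfl⟩ := h.surj y hy
    rcases (show i / 288 = 0 ∨ i / 288 = 1 by omega) with a | a
    · exact ⟨i, hi, by show f i * s ^ _ = _; rw [a, pow_zero, mul_one]⟩
    · refine ⟨mul5 i tI, mul5_lt hi const_lt.1, ?_⟩
      show f _ * s ^ _ = _
      rw [← mul5_layer hi const_lt.1, show tI / 288 = 0 from rfl, a, h.mul i hi _ const_lt.1,
        h.map_t, show (1 + 0) % 2 = 1 from rfl, pow_one, mul_assoc, hs, mul_one]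
  · show f tI * s ^ (tI / 288) = s
    rw [show tI / 288 = 0 from rfl, pow_zero, mul_one, h.map_t]

variable [Finite G]

/-- The central involution is fused to another involution of its centraliser. -/
theorem Emb5.exists_fused (h : Emb5 f s) (hG : ∀ H : Subgroup G, H.index ≠ 2) :
    ∃ i < 576, isInv5 i = true ∧ i ≠ tI ∧ IsConj s (f i) := by
  by_contra hc
  have hiso : Cfsg.IsIsolated s := by
    intro g hg
    obtain ⟨i, hi, hv, hie⟩ := h.exists_invol (y := g * s * g⁻¹)
      (by rw [orderOf_conj, h.orderOf_s]) hg.eq.symm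
    by_contra hne
    exact hc ⟨i, hi, hv, fun e => hne (by rw [← hie, e, h.map_t]),
      isConj_iff.mpr ⟨g, hie.symm⟩⟩
  have hZ := CfsgLib.ZStar.inZStar_of_isolated h.orderOf_s hiso
  obtain ⟨hs, -⟩ := orderOf_two_iff.1 h.orderOf_s
  have hsi : s⁻¹ = s := inv_eq_of_mul_eq_one_right hs
  set O := Cfsg.pPrimeCore 2 G with hO
  have hodd : ∀ o ∈ O, ¬ 2 ∣ orderOf o := fun o ho h2 =>
    CfsgLib.Constrained.pPrimeCore_not_dvd (p := 2) (h2.trans (Subgroup.orderOf_dvd_natCard _ ho))
  have hfac : ∀ x : G, ∃ o ∈ O, ∃ i < 576, x = o * f i := by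
    intro x
    set c := x * s * x⁻¹ * s⁻¹ with hcdef
    have hcO : c ∈ O := hZ x
    have hinv : s * c * s = c⁻¹ := by
      rw [hcdef, hsi]
      simp only [mul_inv_rev, inv_inv, hsi]
      calc s * (x * s * x⁻¹ * s) * s = s * x * s * x⁻¹ * (s * s) := by group
        _ = _ := by rw [hs, mul_one]; group
    obtain ⟨k, hk⟩ : ∃ k, orderOf c = 2 * k + 1 := by
      rcases Nat.even_or_odd' (orderOf c) with ⟨k, e | e⟩
      · exact absurd ⟨k, e⟩ (hodd c hcO)
      · exact ⟨k, e⟩
    set o := c ^ (k + 1) with hodef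
    have hoO : o ∈ O := pow_mem hcO _
    have ho : o * s * o⁻¹ = x * s * x⁻¹ := by
      have h1 : s * o⁻¹ * s = o := by
        have : s * o⁻¹ * s = (s * o⁻¹ * s⁻¹) := by rw [hsi]
        rw [this, hodef, ← inv_pow, ← conj_pow, hsi,
          show s * c⁻¹ * s = c by rw [← hinv]; calc s * (s * c * s) * s = (s * s) * c * (s * s) := by group
            _ = c := by rw [hs, one_mul, mul_one]]
      calc o * s * o⁻¹ = o * (s * o⁻¹ * s) * s := by
            simp only [mul_assoc, hs, mul_one]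
        _ = c ^ (2 * k + 1) * c * s := by rw [h1, hodef, ← pow_add, ← pow_succ]; congr 2; omega
        _ = c * s := by rw [← hk, pow_orderOf_eq_one, one_mul]
        _ = _ := by rw [hcdef, inv_mul_cancel_right]
    obtain ⟨i, hi, hie⟩ := h.surj (o⁻¹ * x) (mul_inv_eq_iff_eq_mul.1 (by
      calc o⁻¹ * x * s * (o⁻¹ * x)⁻¹ = o⁻¹ * (x * s * x⁻¹) * o := by group
        _ = o⁻¹ * (o * s * o⁻¹) * o := by rw [ho]
        _ = s := by group))
    exact ⟨o, hoO, i, hi, by rw [hie, mul_inv_cancel_left]⟩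
  haveI : O.Normal := inferInstance
  have hlay : ∀ {i j}, i < 576 → j < 576 → (mul5 i j) / 288 = (i / 288 + j / 288) % 2 :=
    fun hi hj => (mul5_layer hi hj).symm
  have hinvlay : ∀ {i}, i < 576 → inv5 i / 288 = i / 288 := fun {i} hi => by
    have := hlay hi (inv5_lt hi).1
    rw [(inv5_lt hi).2.1] at this
    have := (inv5_lt hi).1
    omega
  let M : Subgroup G :=
    { carrier := {x | ∃ o ∈ O, ∃ i < 576, i / 288 = 0 ∧ x = o * f i}
      one_mem' := ⟨1, one_mem _, 0, by norm_num, rfl, by rw [h.map_zero, mul_one]⟩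
      mul_mem' := by
        rintro _ _ ⟨o, ho, i, hi, hi0, rfl⟩ ⟨o', ho', j, hj, hj0, rfl⟩
        refine ⟨o * (f i * o' * (f i)⁻¹), mul_mem ho (this.conj_mem o' ho' _), mul5 i j,
          mul5_lt hi hj, by rw [hlay hi hj]; omega, ?_⟩
        rw [h.mul i hi j hj]; group
      inv_mem' := by
        rintro _ ⟨o, ho, i, hi, hi0, rfl⟩
        refine ⟨(f i)⁻¹ * o⁻¹ * (f i)⁻¹⁻¹, this.conj_mem _ (inv_mem ho) _, inv5 i, (inv5_lt hi).1,
          by rw [hinvlay hi, hi0], ?_⟩
        rw [h.map_inv hi]; group }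
  have hmem : ∀ {o : G} {i : ℕ}, o ∈ O → i < 576 → (o * f i ∈ M ↔ i / 288 = 0) := by
    intro o i ho hi
    refine ⟨fun ⟨o', ho', j, hj, hj0, e⟩ => ?_, fun e => ⟨o, ho, i, hi, e, rfl⟩⟩
    have he : f (mul5 i (inv5 j)) ∈ O := by
      rw [h.mul i hi _ (inv5_lt hj).1, h.map_inv hj,
        show f i * (f j)⁻¹ = o⁻¹ * (o * f i) * (f j)⁻¹ by group, e]
      have : o⁻¹ * (o' * f j) * (f j)⁻¹ = o⁻¹ * o' := by group
      rw [this]
      exact mul_mem (inv_mem ho) ho'
    by_contra hne
    have hk := mul5_lt hi (inv5_lt hj).1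
    have hlk : mul5 i (inv5 j) / 288 = 1 := by
      rw [hlay hi (inv5_lt hj).1, hinvlay hj]; omega
    -- the image of an outer element has even order
    refine hodd _ he ?_
    by_contra h2
    obtain ⟨r, hr⟩ : ∃ r, orderOf (f (mul5 i (inv5 j))) = 2 * r + 1 :=
      Nat.not_even_iff_odd.1 (fun hev => h2 (even_iff_two_dvd.1 hev))
    have hpow : ∀ n, ∃ m < 576, f m = f (mul5 i (inv5 j)) ^ n ∧ m / 288 = n % 2 := by
      intro n
      induction n with
      | zero => exact ⟨0, by norm_num, by rw [pow_zero, h.map_zero], rfl⟩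
      | succ n ih =>
        obtain ⟨m, hm, e1, e2⟩ := ih
        exact ⟨_, mul5_lt hm hk, by rw [h.mul m hm _ hk, e1, pow_succ],
          by rw [hlay hm hk, e2, hlk]; omega⟩
    obtain ⟨m, hm, e1, e2⟩ := hpow (2 * r + 1)
    rw [← hr, pow_orderOf_eq_one, ← h.map_zero] at e1
    rw [h.inj m hm 0 (by norm_num) e1] at e2
    omega
  refine hG M (Subgroup.index_eq_two_iff.2 ⟨f aI, fun b => ?_⟩)
  obtain ⟨o, ho, i, hi, rfl⟩ := hfac b
  have ha : aI / 288 = 1 := rfl
  rw [show o * f i * f aI = o * f (mul5 i aI) by rw [h.mul i hi _ const_lt.2.1, mul_assoc],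
    hmem ho (mul5_lt hi const_lt.2.1), hmem ho hi, hlay hi const_lt.2.1, ha]
  simp only [Xor', xor_iff_not_iff]
  omega

/-- An involution of the Sylow subgroup outside the inner one is fused into the inner one. -/
theorem Emb5.fuse_inner (h : Emb5 f s) (hG : ∀ H : Subgroup G, H.index ≠ 2) {i : ℕ} (hi : i < 576)
    (hS : inS i = true) (hQ : inQ i = false) (hv : isInv5 i = true) :
    IsConj (f i) s ∨ IsConj (f i) (f iI) := by
  haveI : Fact (Nat.Prime 2) := ⟨Nat.prime_two⟩
  obtain ⟨T, hT⟩ := h.exists_sylow_eq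
  have hle : h.inner ≤ (T : Subgroup G) := by
    rw [hT]; rintro y ⟨j, hj, hjQ, rfl⟩; exact ⟨j, hj, inner_laws.2.1 j hj hjQ, rfl⟩
  have hrel : h.inner.relIndex (T : Subgroup G) = 2 := by
    have h1 := Subgroup.relIndex_mul_relIndex ⊥ h.inner (T : Subgroup G) bot_le hle
    rw [Subgroup.relIndex_bot_left, Subgroup.relIndex_bot_left, hT,
      show Nat.card h.inner = 32 from (h.card_image ..).trans inner_laws.2.2.2.2.1,
      show Nat.card h.sylow = 64 from (h.card_image ..).trans sylow_laws.2.2.2.1] at h1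
    rw [hT]; omega
  rcases CfsgLib.Transfer.thompsonTransferLemma T h.inner hle hrel (f i) (h.orderOf_invol hi hv)
    (hT ▸ ⟨i, hi, hS, rfl⟩) (by
      rintro ⟨j, hj, hjQ, e⟩
      rw [h.inj j hj i hi e, hQ] at hjQ
      exact Bool.noConfusion hjQ) with ⟨M, -, hM, -⟩ | ⟨g, j, hj, hjQ, hje⟩
  · exact absurd hM (hG M)
  · obtain ⟨j', hj', hv', e'⟩ := h.exists_invol (y := f j)
      (by rw [hje, orderOf_conj]; exact h.orderOf_invol hi hv) (h.comm_s hj)
    rw [h.inj j' hj' j hj e'] at hv'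
    have hij : IsConj (f i) (f j) := isConj_iff.mpr ⟨g, hje.symm⟩
    rcases inner_laws.2.2.2.2.2 j hj hjQ hv' with rfl | e
    · exact .inl (h.map_t ▸ hij)
    · refine .inr (hij.trans ?_)
      have := h.isConj_rep hj hv'
      rw [e] at this
      exact this.symm

/-- After a twist the central involution is fused to `aI`. -/
theorem Emb5.exists_twisted (h : Emb5 f s) (hG : ∀ H : Subgroup G, H.index ≠ 2) :
    ∃ f' : ℕ → G, Emb5 f' s ∧ IsConj s (f' aI) := by
  obtain ⟨⟨-, -, haS, -⟩, -⟩ := sylow_laws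
  obtain ⟨⟨-, -, haQ, -⟩, -⟩ := inner_laws
  obtain ⟨-, hva, hvz, -⟩ := const_cls
  obtain ⟨i, hi, hv, hne, hc⟩ := h.exists_fused hG
  have hrep := h.isConj_rep hi hv
  rcases inv_classes hi hv with e | e | e | e
  · exact absurd e hne
  · rw [e] at hrep
    refine ⟨f, h, ?_⟩
    rcases h.fuse_inner hG const_lt.2.1 haS haQ hva with e' | e'
    · exact e'.symm
    · exact hc.trans (hrep.symm.trans e'.symm)
  · rw [e] at hrep
    exact ⟨f, h, hc.trans hrep.symm⟩
  · rw [e] at hrep
    refine ⟨PSpFourThree.twist f s, h.twist, ?_⟩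
    have : PSpFourThree.twist f s aI = f zI := by
      show f aI * s ^ (aI / 288) = _
      rw [show aI / 288 = 1 from rfl, pow_one, h.comm_s const_lt.2.1, ← h.map_t,
        ← h.mul _ const_lt.1 _ const_lt.2.1, const_cls.2.2.2.2.2.2.2.2]
    rw [this]
    exact hc.trans hrep.symm

end CfsgLib.PSpFourThree
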