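import Cfsg.Agent.PSpFourThree.Facts

/-!
Checked facts about the elementary subgroup of order sixteen and about the maps induced on it by
elements moving the central involution.
-/

set_option autoImplicit false
set_option maxRecDepth 100000

namespace CfsgLib.PSpFourThree

open CfsgLib.CosetEnum (allBelow)

/-- the action of a representative of the normaliser -/
noncomputable def dA (j k : ℕ) : ℕ := ((dAct.getD j 0) >>> (4 * k)) % 16

/-- the action of a letter -/
noncomputable def letterAct (m n : ℕ → ℕ) (j k : ℕ) : ℕ :=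
  bif Nat.blt j 12 then dA j k else bif Nat.beq j 12 then m k else n k

/-- the action of a word -/
noncomputable def wordAct (m n : ℕ → ℕ) : List ℕ → ℕ → ℕ
  | [], k => k
  | j :: w, k => letterAct m n j (wordAct m n w k)

/-- some word fixes the centre and acts unlike its normaliser -/
noncomputable def refuted (m n : ℕ → ℕ) : Bool :=
  refWords.any fun w => Nat.beq (wordAct m n w 1) 1 &&
    allBelow (fun j => !(allBelow (fun k => Nat.beq (wordAct m n w k) (dA j k)) 16)) 12

/-- the linear map with the given values at the basis -/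
noncomputable def linM (x0 x1 x2 x3 k : ℕ) : ℕ :=
  (bif Nat.testBit k 0 then x0 else 0) ^^^ (bif Nat.testBit k 1 then x1 else 0) ^^^
    (bif Nat.testBit k 2 then x2 else 0) ^^^ (bif Nat.testBit k 3 then x3 else 0)

/-- two values agree -/
noncomputable def degenerate (m : ℕ → ℕ) : Bool :=
  anyBelow (fun k => !(Nat.beq k 0) && Nat.beq (m k) 0) 16

/-- the action of the automorphism `phi` -/
noncomputable def mPhi (k : ℕ) : ℕ := (0xb9a8fdec75643120 >>> (4 * k)) % 16

theorem eI_consts : eI 0 = 0 ∧ eI 1 = tI ∧ eI 2 = aI ∧ eI 3 = zI := by decide +kernel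

theorem eI_check : allBelow (fun k => Nat.blt (eI k) 576 && inE (eI k) && inP (eI k) &&
    com5 (eI k) zI && Nat.beq (mul5 (eI k) (eI k)) 0 &&
    allBelow (fun l => Nat.beq (eI (k ^^^ l)) (mul5 (eI k) (eI l)) &&
      impB (Nat.beq (eI k) (eI l)) (Nat.beq k l)) 16 &&
    allBelow (fun j => Nat.blt (dA j k) 16 && Nat.beq (cj5 (dI j) (eI k)) (eI (dA j k))) 12 &&
    Nat.blt (mPhi k) 16 && Nat.beq (phi (eI k)) (eI (mPhi k))) 16 = true := by
  decide +kernel

theorem inE_check : allBelow (fun i =>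
    impB (inE i) (anyBelow (fun k => Nat.beq (eI k) i) 16) &&
    impB (inP i && Nat.beq (mul5 i i) 0) (inE i) &&
    impB (inP i) (com5 i zI) && impB (com5 i zI) (inP i) &&
    impB (allBelow (fun k => inE (cj5 i (eI k))) 16)
      (anyBelow (fun j => allBelow (fun k => Nat.beq (cj5 i (eI k)) (eI (dA j k))) 16) 12)) 576 = true := by
  decide +kernel

theorem dI_lt : ∀ j < 12, dI j < 576 := by decide +kernel

theorem eI_lt {k : ℕ} (hk : k < 16) : eI k < 576 := by
  have := allBelow_spec eI_check k hk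
  simp only [Bool.and_eq_true, blt_spec] at this
  exact this.1.1.1.1.1.1.1.1

theorem eI_laws {k : ℕ} (hk : k < 16) : inE (eI k) = true ∧ inP (eI k) = true ∧
    com5 (eI k) zI = true ∧ mul5 (eI k) (eI k) = 0 ∧
    (∀ l < 16, eI (k ^^^ l) = mul5 (eI k) (eI l) ∧ (eI k = eI l → k = l)) ∧
    (∀ j < 12, dA j k < 16 ∧ cj5 (dI j) (eI k) = eI (dA j k)) ∧
    mPhi k < 16 ∧ phi (eI k) = eI (mPhi k) := by
  have := allBelow_spec eI_check k hk
  simp only [Bool.and_eq_true, blt_spec, beq_spec] at this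
  obtain ⟨⟨⟨⟨⟨⟨⟨⟨-, h1⟩, h2⟩, h3⟩, h4⟩, h5⟩, h6⟩, h7⟩, h8⟩ := this
  refine ⟨h1, h2, h3, h4, fun l hl => ?_, fun j hj => ?_, h7, h8⟩
  · have := allBelow_spec h5 l hl
    simp only [Bool.and_eq_true, beq_spec] at this
    exact ⟨this.1, fun e => beq_spec.1 (impB_spec this.2 (beq_spec.2 e))⟩
  · have := allBelow_spec h6 j hj
    simpa [Bool.and_eq_true, blt_spec, beq_spec] using this

theorem inE_laws {i : ℕ} (hi : i < 576) :
    (inE i = true → ∃ k < 16, eI k = i) ∧
    (inP i = true → mul5 i i = 0 → inE i = true) ∧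
    (inP i = true ↔ com5 i zI = true) ∧
    ((∀ k < 16, inE (cj5 i (eI k)) = true) →
      ∃ j < 12, ∀ k < 16, cj5 i (eI k) = eI (dA j k)) := by
  have := allBelow_spec inE_check i hi
  simp only [Bool.and_eq_true] at this
  obtain ⟨⟨⟨⟨h1, h2⟩, h3⟩, h4⟩, h5⟩ := this
  refine ⟨fun e => ?_, fun e e' => impB_spec h2 (by rw [Bool.and_eq_true, beq_spec]; exact ⟨e, e'⟩),
    ⟨fun e => impB_spec h3 e, fun e => impB_spec h4 e⟩, fun e => ?_⟩
  · obtain ⟨k, hk, hke⟩ := anyBelow_spec (impB_spec h1 e)
    exact ⟨k, hk, beq_spec.1 hke⟩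
  · obtain ⟨j, hj, hje⟩ := anyBelow_spec (impB_spec h5 (allBelow_intro e))
    exact ⟨j, hj, fun k hk => beq_spec.1 (allBelow_spec hje k hk)⟩

theorem no_map_to_z : allBelow (fun i => allBelow (fun j =>
    degenerate (linM 3 1 i j) || refuted (linM 3 1 i j) (fun k => k)) 16) 16 = true := by
  decide +kernel

theorem no_swap_z : allBelow (fun i => allBelow (fun j =>
    degenerate (linM 3 2 i j) || refuted mPhi (linM 3 2 i j)) 16) 16 = true := by
  decide +kernel

end CfsgLib.PSpFourThree
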