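import Cfsg.Agent.PSpFourThree.Fuse
import Cfsg.Agent.PSpFourThree.GlueFacts

/-!
Elements moving the central involution act on the elementary subgroup of order sixteen.
-/

set_option autoImplicit false
set_option maxRecDepth 100000

namespace CfsgLib.PSpFourThree

open CfsgLib.CosetEnum (allBelow)
open CfsgLib.StronglyEmbedded (orderOf_two_iff orderOf_conj)

variable {G : Type*} [Group G] {f : ℕ → G} {s : G}

/-- `g` acts on the elementary subgroup by `m` -/
def Acts (f : ℕ → G) (g : G) (m : ℕ → ℕ) : Prop :=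
  ∀ k < 16, m k < 16 ∧ g * f (eI k) * g⁻¹ = f (eI (m k))

theorem Acts.of_eq {g : G} {m m' : ℕ → ℕ} (h : Acts f g m) (e : ∀ k < 16, m k = m' k) :
    Acts f g m' := fun k hk => e k hk ▸ h k hk

theorem Acts.one : Acts f (1 : G) (fun k => k) := fun k hk =>
  ⟨hk, by rw [one_mul, inv_one, mul_one]⟩

theorem Acts.mul {g g' : G} {m m' : ℕ → ℕ} (h : Acts f g m) (h' : Acts f g' m') :
    Acts f (g * g') (fun k => m (m' k)) := fun k hk => by
  obtain ⟨l1, e1⟩ := h' k hk
  obtain ⟨l2, e2⟩ := h _ l1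
  exact ⟨l2, by rw [← e2, ← e1]; group⟩

theorem Emb5.acts_dI (h : Emb5 f s) {j : ℕ} (hj : j < 12) : Acts f (f (dI j)) (dA j) :=
  fun k hk => by
    obtain ⟨l, e⟩ := (eI_laws hk).2.2.2.2.2.1 j hj
    exact ⟨l, by rw [← e, h.map_cj (dI_lt j hj) (eI_lt hk)]⟩

/-- A word is realised by an element. -/
theorem Emb5.acts_word (h : Emb5 f s) {g g' : G} {m n : ℕ → ℕ} (hm : Acts f g m)
    (hn : Acts f g' n) : ∀ w : List ℕ, ∃ x, Acts f x (wordAct m n w)
  | [] => ⟨1, Acts.one⟩
  | j :: w => by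
    obtain ⟨x, hx⟩ := h.acts_word hm hn w
    obtain ⟨y, hy⟩ : ∃ y, Acts f y (letterAct m n j) := by
      by_cases h12 : j < 12
      · exact ⟨_, (h.acts_dI h12).of_eq fun k _ => by
          rw [letterAct, blt_spec.2 h12, cond_true]⟩
      · by_cases e : j = 12
        · exact ⟨g, hm.of_eq fun k _ => by
            rw [letterAct, blt_false_spec.2 (by omega), cond_false, beq_spec.2 e, cond_true]⟩
        · exact ⟨g', hn.of_eq fun k _ => by
            rw [letterAct, blt_false_spec.2 (by omega), cond_false, beq_false_spec.2 e, cond_false]⟩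
    exact ⟨y * x, hy.mul hx⟩

/-- Realised maps are not refuted. -/
theorem Emb5.not_refuted (h : Emb5 f s) {g g' : G} {m n : ℕ → ℕ} (hm : Acts f g m)
    (hn : Acts f g' n) : refuted m n = false := by
  rw [← Bool.not_eq_true]
  intro hr
  obtain ⟨w, -, hw⟩ := List.any_eq_true.1 hr
  rw [Bool.and_eq_true, beq_spec] at hw
  obtain ⟨x, hx⟩ := h.acts_word hm hn w
  obtain ⟨-, hxt⟩ := hx 1 (by norm_num)
  rw [hw.1, eI_consts.2.1, h.map_t] at hxt
  obtain ⟨c, hc, rfl⟩ := h.surj x (mul_inv_eq_iff_eq_mul.1 hxt)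
  have himg : ∀ k < 16, cj5 c (eI k) = eI (wordAct m n w k) := fun k hk =>
    h.inj _ (cj5_lt hc (eI_lt hk)) _ (eI_lt (hx k hk).1)
      (by rw [h.map_cj hc (eI_lt hk), (hx k hk).2])
  obtain ⟨j, hj, hje⟩ := (inE_laws hc).2.2.2 fun k hk => by
    rw [himg k hk]; exact (eI_laws (hx k hk).1).1
  have := allBelow_spec hw.2 j hj
  rw [Bool.not_eq_true', ← Bool.not_eq_true] at this
  refine this (allBelow_intro fun k hk => beq_spec.2 ?_)
  refine ((eI_laws (hx k hk).1).2.2.2.2.1 _ ?_).2 ((himg k hk).symm.trans (hje k hk))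
  exact ((eI_laws hk).2.2.2.2.2.1 j hj).1

/-- the index of `aI` or `zI` in the elementary subgroup -/
def tgtK (x : ℕ) : ℕ := if x = aI then 2 else 3

theorem Emb5.com_iff_inP (h : Emb5 f s) {x i : ℕ} (hx : x = aI ∨ x = zI) (hi : i < 576) :
    inP i = true ↔ f i * f x = f x * f i := by
  rcases hx with rfl | rfl
  · exact h.com_iff hi const_lt.2.1
  · exact (inE_laws hi).2.2.1.trans (h.com_iff hi const_lt.2.2.1)

/-- An element carrying `x` to the centre and the centre to `y` acts linearly. -/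
theorem Emb5.exists_acts (h : Emb5 f s) {g : G} {x y : ℕ} (hx : x = aI ∨ x = zI)
    (hy : y = aI ∨ y = zI) (hgx : g * f x * g⁻¹ = s) (hgs : g * s * g⁻¹ = f y) :
    ∃ m : ℕ → ℕ, Acts f g m ∧ m 1 = tgtK y ∧ m (tgtK x) = 1 ∧ degenerate m = false ∧
      ∀ k < 16, m k = linM (m 1) (m 2) (m 4) (m 8) k := by
  have hyl : y < 576 := by rcases hy with rfl | rfl <;> decide
  have hxl : x < 576 := by rcases hx with rfl | rfl <;> decide
  have htk : ∀ {z}, z = aI ∨ z = zI → eI (tgtK z) = z ∧ tgtK z < 16 := by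
    rintro z (rfl | rfl)
    · exact ⟨eI_consts.2.2.1, by decide⟩
    · exact ⟨eI_consts.2.2.2, by decide⟩
  have himg : ∀ k < 16, ∃ l < 16, g * f (eI k) * g⁻¹ = f (eI l) := by
    intro k hk
    obtain ⟨-, hP, -, hsq, -⟩ := eI_laws hk
    have hkx := (h.com_iff_inP hx (eI_lt hk)).1 hP
    have hks := h.comm_s (eI_lt hk)
    obtain ⟨i, hi, hie⟩ := h.surj (g * f (eI k) * g⁻¹) (by
      rw [← hgx]
      calc g * f (eI k) * g⁻¹ * (g * f x * g⁻¹) = g * (f (eI k) * f x) * g⁻¹ := by group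
        _ = g * (f x * f (eI k)) * g⁻¹ := by rw [hkx]
        _ = _ := by group)
    have hiP : inP i = true := (h.com_iff_inP hy hi).2 (by
      rw [hie, ← hgs]
      calc g * f (eI k) * g⁻¹ * (g * s * g⁻¹) = g * (f (eI k) * s) * g⁻¹ := by group
        _ = g * (s * f (eI k)) * g⁻¹ := by rw [hks]
        _ = _ := by group)
    have hi0 : mul5 i i = 0 := h.inj _ (mul5_lt hi hi) 0 (by norm_num) (by
      rw [h.mul i hi i hi, hie, h.map_zero]
      calc g * f (eI k) * g⁻¹ * (g * f (eI k) * g⁻¹) = g * (f (eI k) * f (eI k)) * g⁻¹ := by group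
        _ = 1 := by rw [← h.mul _ (eI_lt hk) _ (eI_lt hk), hsq, h.map_zero]; group)
    obtain ⟨l, hl, rfl⟩ := (inE_laws hi).1 ((inE_laws hi).2.1 hiP hi0)
    exact ⟨l, hl, hie.symm⟩
  classical
  let m : ℕ → ℕ := fun k => if hk : k < 16 then (himg k hk).choose else 0
  have hm : Acts f g m := fun k hk => by
    simp only [m, dif_pos hk]
    exact (himg k hk).choose_spec
  have huniq : ∀ {k l}, k < 16 → l < 16 → g * f (eI k) * g⁻¹ = f (eI l) → m k = l :=
    fun {k l} hk hl e => ((eI_laws (hm k hk).1).2.2.2.2.1 l hl).2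
      (h.inj _ (eI_lt (hm k hk).1) _ (eI_lt hl) ((hm k hk).2.symm.trans e))
  have h0 : m 0 = 0 := huniq (by norm_num) (by norm_num) (by
    rw [eI_consts.1, h.map_zero]; group)
  have hxor : ∀ {k l}, k < 16 → l < 16 → m (k ^^^ l) = m k ^^^ m l := fun {k l} hk hl => by
    have hkl : k ^^^ l < 16 := Nat.xor_lt_two_pow (n := 4) hk hl
    refine huniq hkl (Nat.xor_lt_two_pow (n := 4) (hm k hk).1 (hm l hl).1) ?_
    rw [((eI_laws hk).2.2.2.2.1 l hl).1, h.mul _ (eI_lt hk) _ (eI_lt hl),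
      ((eI_laws (hm k hk).1).2.2.2.2.1 _ (hm l hl).1).1,
      h.mul _ (eI_lt (hm k hk).1) _ (eI_lt (hm l hl).1), ← (hm k hk).2, ← (hm l hl).2]
    group
  refine ⟨m, hm, ?_, ?_, ?_, fun k hk => ?_⟩
  · exact huniq (by norm_num) (htk hy).2 (by rw [eI_consts.2.1, h.map_t, (htk hy).1, hgs])
  · exact huniq (htk hx).2 (by norm_num) (by rw [(htk hx).1, eI_consts.2.1, h.map_t, hgx])
  · rw [← Bool.not_eq_true]
    intro hd
    obtain ⟨k, hk, e⟩ := anyBelow_spec hd
    rw [Bool.and_eq_true, Bool.not_eq_true', beq_false_spec, beq_spec] at e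
    have := (hm k hk).2
    rw [e.2, eI_consts.1, h.map_zero, conj_eq_one_iff, ← h.map_zero] at this
    have := h.inj _ (eI_lt hk) 0 (by norm_num) this
    exact e.1 (((eI_laws hk).2.2.2.2.1 0 (by norm_num)).2 (this.trans eI_consts.1.symm))
  · have hdec : ∀ k < 16, linM 1 2 4 8 k = k ∧ (bif Nat.testBit k 0 then 1 else 0) < 16 ∧
        (bif Nat.testBit k 1 then 2 else 0) < 16 ∧ (bif Nat.testBit k 2 then 4 else 0) < 16 ∧
        (bif Nat.testBit k 3 then 8 else 0) < 16 := by decide +kernel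
    obtain ⟨e, l0, l1, l2, l3⟩ := hdec k hk
    have hb : ∀ (b : Bool) (c : ℕ), m (bif b then c else 0) = bif b then m c else 0 := fun b c => by
      cases b
      · exact h0
      · rfl
    conv_lhs => rw [← e, linM]
    rw [hxor (Nat.xor_lt_two_pow (n := 4) (Nat.xor_lt_two_pow (n := 4) l0 l1) l2) l3,
      hxor (Nat.xor_lt_two_pow (n := 4) l0 l1) l2, hxor l0 l1, hb, hb, hb, hb, linM]

theorem linM_congr {m m' : ℕ → ℕ} (e : ∀ k < 16, m k = m' k) (h : degenerate m = false) :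
    degenerate m' = false := by
  rw [← Bool.not_eq_true] at h ⊢
  intro hd
  obtain ⟨k, hk, e'⟩ := anyBelow_spec hd
  refine h ?_
  rw [degenerate, anyBelow, Bool.not_eq_true', ← Bool.not_eq_true]
  intro ha
  have := allBelow_spec ha k hk
  rw [e k hk, e'] at this
  exact Bool.noConfusion this

/-- No element carries `aI` to the centre and the centre to `zI`. -/
theorem Emb5.not_to_z (h : Emb5 f s) {g : G} (hga : g * f aI * g⁻¹ = s) : g * s * g⁻¹ ≠ f zI := by
  intro hgs
  obtain ⟨m, hm, h1, h2, hd, hlin⟩ := h.exists_acts (.inl rfl) (.inr rfl) hga hgs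
  rw [show tgtK zI = 3 by decide] at h1
  rw [show tgtK aI = 2 by decide] at h2
  have := allBelow_spec (allBelow_spec no_map_to_z (m 4) (hm 4 (by norm_num)).1) (m 8)
    (hm 8 (by norm_num)).1
  have e : ∀ k < 16, m k = linM 3 1 (m 4) (m 8) k := fun k hk => by
    conv_lhs => rw [hlin k hk, h1, h2]
  rw [linM_congr e hd, Bool.false_or] at this
  have hn := h.not_refuted (hm.of_eq e) Acts.one
  rw [this] at hn
  exact Bool.noConfusion hn

/-- Some element exchanges the centre and `aI`. -/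
theorem Emb5.exists_exchange (h : Emb5 f s) (hsa : IsConj s (f aI)) :
    ∃ g : G, g * f aI * g⁻¹ = s ∧ g * s * g⁻¹ = f aI := by
  obtain ⟨g, hg⟩ := isConj_iff.1 hsa.symm
  have ha := const_lt.2.1
  have hcomm : f aI * s = s * f aI := h.comm_s ha
  obtain ⟨i, hi, hv, hie⟩ := h.exists_invol (y := g * s * g⁻¹) (by rw [orderOf_conj, h.orderOf_s]) (by
    calc g * s * g⁻¹ * s = g * (s * f aI) * g⁻¹ := by conv_lhs => arg 2; rw [← hg]
                                                      group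
      _ = g * (f aI * s) * g⁻¹ := by rw [hcomm]
      _ = g * f aI * g⁻¹ * (g * s * g⁻¹) := by group
      _ = _ := by rw [hg])
  have hne : i ≠ tI := fun e => by
    rw [e, h.map_t] at hie
    have h' : f aI = f tI := by
      rw [h.map_t]
      calc f aI = g⁻¹ * (g * f aI * g⁻¹) * g := by group
        _ = g⁻¹ * (g * s * g⁻¹) * g := by rw [hg, ← hie]
        _ = s := by group
    exact absurd (h.inj _ ha _ const_lt.1 h') (by decide)
  obtain ⟨l, hl, hle⟩ := cls_conj hi hv
  have hmove : ∀ r < 576, cj5 l r = i →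
      (f l)⁻¹ * g * f aI * ((f l)⁻¹ * g)⁻¹ = s ∧ (f l)⁻¹ * g * s * ((f l)⁻¹ * g)⁻¹ = f r := by
    intro r hr e
    have hls := h.comm_s hl
    constructor
    · calc (f l)⁻¹ * g * f aI * ((f l)⁻¹ * g)⁻¹ = (f l)⁻¹ * (g * f aI * g⁻¹) * f l := by group
        _ = (f l)⁻¹ * (s * f l) := by rw [hg]; group
        _ = s := by rw [← hls, inv_mul_cancel_left]
    · calc (f l)⁻¹ * g * s * ((f l)⁻¹ * g)⁻¹ = (f l)⁻¹ * (g * s * g⁻¹) * f l := by group
        _ = f r := by rw [← hie, ← e, h.map_cj hl hr]; group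
  rcases inv_classes hi hv with e | e | e | e
  · exact absurd e hne
  · -- an inner involution has a 2-group as centraliser
    exfalso
    rw [e, show repI 2 = iI from rfl] at hle
    obtain ⟨h1, h2⟩ := hmove iI const_lt.2.2.2.1 hle
    set g' := (f l)⁻¹ * g
    have hd : inP yR = true ∧ mul5 (mul5 yR yR) yR = 0 ∧ yR ≠ 0 ∧
        allBelow (fun k => impB (com5 k iI) (Nat.beq (mul5 (mul5 k k) (mul5 k k)) 0)) 576 = true := by
      decide +kernel
    obtain ⟨hP, h3, hy0, h4⟩ := hd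
    have hy := const_lt.2.2.2.2.2.2.2.2.2.2.2
    have hya := (h.com_iff hy ha).1 hP
    have hys := h.comm_s hy
    obtain ⟨k, hk, hke⟩ := h.surj (g' * f yR * g'⁻¹) (by
      rw [← h1]
      calc g' * f yR * g'⁻¹ * (g' * f aI * g'⁻¹) = g' * (f yR * f aI) * g'⁻¹ := by group
        _ = g' * (f aI * f yR) * g'⁻¹ := by rw [hya]
        _ = _ := by group)
    have hki : com5 k iI = true := (h.com_iff hk const_lt.2.2.2.1).2 (by
      rw [hke, ← h2]
      calc g' * f yR * g'⁻¹ * (g' * s * g'⁻¹) = g' * (f yR * s) * g'⁻¹ := by group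
        _ = g' * (s * f yR) * g'⁻¹ := by rw [hys]
        _ = _ := by group)
    have hk4 := congrArg f (beq_spec.1 (impB_spec (allBelow_spec h4 k hk) hki))
    rw [h.mul _ (mul5_lt hk hk) _ (mul5_lt hk hk), h.mul _ hk _ hk, h.map_zero, hke] at hk4
    have hy3 := congrArg f h3
    rw [h.mul _ (mul5_lt hy hy) _ hy, h.mul _ hy _ hy, h.map_zero] at hy3
    refine hy0 (h.inj _ hy 0 (by norm_num) ?_)
    rw [h.map_zero]
    have : f yR = g'⁻¹ * (g' * f yR * g'⁻¹ * (g' * f yR * g'⁻¹) * (g' * f yR * g'⁻¹ * (g' * f yR * g'⁻¹))) * g' := by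
      calc f yR = f yR * f yR * f yR * f yR := by rw [hy3, one_mul]
        _ = _ := by group
    rw [this, hk4]; group
  · rw [e, show repI 3 = aI from rfl] at hle
    exact ⟨_, hmove aI ha hle⟩
  · rw [e, show repI 4 = zI from rfl] at hle
    obtain ⟨h1, h2⟩ := hmove zI const_lt.2.2.1 hle
    exact absurd h2 (h.not_to_z h1)

end CfsgLib.PSpFourThree
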