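import Cfsg.Agent.PSpFourThree.Basic
import Cfsg.Agent.PSpFourThree.ModelData

/-!
The numbered centraliser as permutations of forty points.
-/

set_option autoImplicit false
set_option maxRecDepth 100000

namespace CfsgLib.PSpFourThree

open CfsgLib.CosetEnum (allBelow)

/-- The images of the forty points. -/
def imgs (g : Equiv.Perm (Fin 40)) : List ℕ := (List.finRange 40).map fun i => (g i : ℕ)

/-- Composition of lists of images. -/
def comp40 (a b : List ℕ) : List ℕ := b.map fun x => a.getD x 0

theorem imgs_getD (g : Equiv.Perm (Fin 40)) (i : Fin 40) : (imgs g).getD (i : ℕ) 0 = (g i : ℕ) := by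
  rw [List.getD_eq_getElem _ _ (by simp [imgs])]
  simp [imgs]

theorem imgs_mul (g h : Equiv.Perm (Fin 40)) : imgs (g * h) = comp40 (imgs g) (imgs h) := by
  show (List.finRange 40).map _ = ((List.finRange 40).map fun i => (h i : ℕ)).map _
  rw [List.map_map]
  refine List.map_congr_left fun i _ => ?_
  show (g (h i) : ℕ) = (imgs g).getD (h i : ℕ) 0
  rw [imgs_getD]

theorem imgs_injective : Function.Injective imgs := fun g h e => Equiv.ext fun i =>
  Fin.ext (by rw [← imgs_getD, ← imgs_getD, e])

/-- The first factor. -/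
def eP (a : ℕ) : Equiv.Perm (Fin 40) :=
  ((wordP.getD a []).map fun x => bif x == 0 then pA else pB).prod

/-- The second factor. -/
def eQ (b : ℕ) : Equiv.Perm (Fin 40) := pW * eP b * pW

theorem eP_table : ((List.range 24).all fun a => imgs (eP a) == tabP.getD a []) = true := by
  decide +kernel

theorem imgs_eP {a : ℕ} (ha : a < 24) : imgs (eP a) = tabP.getD a [] := by
  have h := eP_table
  simp only [List.all_eq_true, List.mem_range, beq_iff_eq] at h
  exact h a ha

theorem pW_sq : pW * pW = 1 := imgs_injective (by decide +kernel)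

theorem imgs_eQ {b : ℕ} (hb : b < 24) :
    imgs (eQ b) = comp40 (comp40 (imgs pW) (tabP.getD b [])) (imgs pW) := by
  rw [eQ, imgs_mul, imgs_mul, imgs_eP hb]

/-- the checked laws of the factors -/
noncomputable def factorsOK : Bool :=
  allBelow (fun a => allBelow (fun b => Nat.blt (mS a b) 24 &&
    (comp40 (tabP.getD a []) (tabP.getD b []) == tabP.getD (mS a b) []) &&
    (comp40 (tabP.getD a []) (comp40 (comp40 (imgs pW) (tabP.getD b [])) (imgs pW)) ==
      comp40 (comp40 (comp40 (imgs pW) (tabP.getD b [])) (imgs pW)) (tabP.getD a []))) 24) 24 &&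
    allBelow (fun a => Nat.beq (mS a 12) ((a + 12) % 24)) 24 && (imgs 1 == tabP.getD 0 []) &&
    (tabP.getD 12 [] == comp40 (comp40 (imgs pW) (tabP.getD 12 [])) (imgs pW))

theorem factors_check : factorsOK = true := by decide +kernel

theorem factor_laws {a b : ℕ} (ha : a < 24) (hb : b < 24) :
    mS a b < 24 ∧ eP (mS a b) = eP a * eP b ∧ eP a * eQ b = eQ b * eP a := by
  have h := factors_check
  simp only [factorsOK, Bool.and_eq_true, beq_iff_eq] at h
  have h' := allBelow_spec (allBelow_spec h.1.1.1 a ha) b hb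
  simp only [Bool.and_eq_true, beq_iff_eq, blt_spec] at h'
  obtain ⟨⟨h1, h2⟩, h3⟩ := h'
  refine ⟨h1, imgs_injective ?_, imgs_injective ?_⟩
  · rw [imgs_mul, imgs_eP ha, imgs_eP hb, imgs_eP h1, h2]
  · rw [imgs_mul, imgs_mul, imgs_eP ha, imgs_eQ hb, h3]

theorem eQ_mul {a b : ℕ} (ha : a < 24) (hb : b < 24) : eQ (mS a b) = eQ a * eQ b := by
  rw [eQ, (factor_laws ha hb).2.1, eQ, eQ]
  calc pW * (eP a * eP b) * pW = pW * eP a * (pW * pW) * eP b * pW := by rw [pW_sq]; group
    _ = _ := by group

theorem eP_zero : eP 0 = 1 ∧ eQ 0 = 1 := by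
  have h : eP 0 = 1 := rfl
  exact ⟨h, by rw [eQ, h, mul_one, pW_sq]⟩

theorem central_check : eP 12 = eQ 12 ∧ ∀ a < 24, mS a 12 = (a + 12) % 24 := by
  have h := factors_check
  simp only [factorsOK, Bool.and_eq_true, beq_iff_eq] at h
  exact ⟨imgs_injective (by rw [imgs_eQ (by norm_num), imgs_eP (by norm_num)]; exact h.2),
    fun a ha => beq_spec.1 (allBelow_spec h.1.1.2 a ha)⟩

/-- the numbered elements -/
def el (i : ℕ) : Equiv.Perm (Fin 40) :=
  eP (i % 288 / 12) * eQ (i % 12) * pW ^ (i / 288)

theorem el_norm {s a b : ℕ} (ha : a < 24) (hb : b < 24) :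
    (s < 2 → norm3 s a b < 576) ∧ el (norm3 s a b) = eP a * eQ b * pW ^ s := by
  rw [norm3]
  by_cases h : b < 12
  · rw [blt_spec.2 h, cond_true]
    refine ⟨fun _ => by omega, ?_⟩
    rw [el, show (288 * s + 12 * a + b) % 288 / 12 = a by omega,
      show (288 * s + 12 * a + b) % 12 = b by omega, show (288 * s + 12 * a + b) / 288 = s by omega]
  · rw [show Nat.blt b 12 = false from blt_false_spec.2 (by omega), cond_false]
    refine ⟨fun _ => by omega, ?_⟩
    have e : (288 * s + 12 * ((a + 12) % 24) + (b - 12)) % 288 / 12 = (a + 12) % 24 := by omega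
    have e' : (288 * s + 12 * ((a + 12) % 24) + (b - 12)) % 12 = b - 12 := by omega
    have e'' : (288 * s + 12 * ((a + 12) % 24) + (b - 12)) / 288 = s := by omega
    rw [el, e, e', e'']
    obtain ⟨hc, h12⟩ := central_check
    have hb' : eQ b = eQ (b - 12) * eQ 12 := by
      rw [← eQ_mul (by omega) (by norm_num), h12 _ (by omega), show (b - 12 + 12) % 24 = b by omega]
    rw [← h12 a ha, (factor_laws ha (by norm_num)).2.1, hb', mul_assoc (eP a) (eP 12),
      (factor_laws (a := 12) (b := b - 12) (by norm_num) (by omega)).2.2, hc]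

theorem el_mul {i j : ℕ} (hi : i < 576) (hj : j < 576) :
    mul5 i j < 576 ∧ el (mul5 i j) = el i * el j := by
  set a := i % 288 / 12 with hadef
  set b := i % 12 with hbdef
  set a' := j % 288 / 12 with ha'def
  set b' := j % 12 with hb'def
  have ha : a < 24 := by omega
  have hb : b < 24 := by omega
  have ha' : a' < 24 := by omega
  have hb' : b' < 24 := by omega
  have hj' : el j = eP a' * eQ b' * pW ^ (j / 288) := rfl
  rw [mul5]
  by_cases h : i < 288
  · rw [blt_spec.2 h, cond_true, show i / 12 = a by omega]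
    obtain ⟨l1, m1, -⟩ := factor_laws ha ha'
    obtain ⟨l2, -, -⟩ := factor_laws hb hb'
    refine ⟨(el_norm l1 l2).1 (by omega), ?_⟩
    rw [(el_norm l1 l2).2, m1, eQ_mul hb hb', hj', el, show i / 288 = 0 by omega, pow_zero, mul_one]
    have hc := (factor_laws ha' hb).2.2
    calc eP a * eP a' * (eQ b * eQ b') * pW ^ (j / 288)
        = eP a * (eP a' * eQ b) * eQ b' * pW ^ (j / 288) := by group
      _ = eP a * (eQ b * eP a') * eQ b' * pW ^ (j / 288) := by rw [hc]
      _ = _ := by rw [hadef, hbdef]; group
  · rw [show Nat.blt i 288 = false from blt_false_spec.2 (by omega), cond_false]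
    obtain ⟨l1, m1, -⟩ := factor_laws ha hb'
    obtain ⟨l2, -, -⟩ := factor_laws hb ha'
    refine ⟨(el_norm l1 l2).1 (by omega), ?_⟩
    rw [(el_norm l1 l2).2, m1, eQ_mul hb ha', hj', el, show i / 288 = 1 by omega, pow_one]
    have h1 : pW * eP a' = eQ a' * pW := by
      rw [eQ, mul_assoc _ pW pW, pW_sq, mul_one]
    have h2 : pW * eQ b' = eP b' * pW := by
      rw [eQ]; simp only [← mul_assoc]; rw [pW_sq, one_mul]
    have hs : pW ^ (1 - j / 288) = pW * pW ^ (j / 288) := by
      rcases (show j / 288 = 0 ∨ j / 288 = 1 by omega) with e | e <;> simp [e, pW_sq]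
    have hc := (factor_laws hb' hb).2.2
    have hc' := (factor_laws hb' ha').2.2
    rw [hs]
    calc eP a * eP b' * (eQ b * eQ a') * (pW * pW ^ (j / 288))
        = eP a * (eP b' * eQ b) * eQ a' * pW * pW ^ (j / 288) := by group
      _ = eP a * eQ b * (eP b' * eQ a') * pW * pW ^ (j / 288) := by rw [hc]; group
      _ = eP a * eQ b * eQ a' * (eP b' * pW) * pW ^ (j / 288) := by rw [hc']; group
      _ = eP a * eQ b * eQ a' * (pW * eQ b') * pW ^ (j / 288) := by rw [h2]
      _ = eP a * eQ b * (eQ a' * pW) * eQ b' * pW ^ (j / 288) := by group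
      _ = eP a * eQ b * (pW * eP a') * eQ b' * pW ^ (j / 288) := by rw [h1]
      _ = _ := by rw [hadef, hbdef]; group

/-- the images of the base points -/
def codeOf (l : List ℕ) : ℕ := ((basePts.map fun q => l.getD q 0).reverse).foldl (fun z x => 40 * z + x) 0

theorem base_check : allBelow (fun i => Nat.beq (codeOf (comp40 (comp40 (tabP.getD (i % 288 / 12) [])
      (comp40 (comp40 (imgs pW) (tabP.getD (i % 12) [])) (imgs pW)))
      (bif Nat.blt i 288 then imgs 1 else imgs pW))) (baseCode i) &&
    allBelow (fun j => !(Nat.beq (baseCode i) (baseCode j))) i) 576 = true := by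
  decide +kernel

theorem el_code {i : ℕ} (hi : i < 576) : codeOf (imgs (el i)) = baseCode i := by
  have := allBelow_spec base_check i hi
  rw [Bool.and_eq_true, beq_spec] at this
  rw [← this.1, el, imgs_mul, imgs_mul, imgs_eP (by omega), imgs_eQ (by omega)]
  congr 2
  by_cases h : i < 288
  · rw [blt_spec.2 h, cond_true, show i / 288 = 0 by omega, pow_zero]
  · rw [show Nat.blt i 288 = false from blt_false_spec.2 (by omega), cond_false,
      show i / 288 = 1 by omega, pow_one]

theorem el_inj {i j : ℕ} (hi : i < 576) (hj : j < 576) (e : el i = el j) : i = j := by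
  have e' : baseCode i = baseCode j := by rw [← el_code hi, ← el_code hj, e]
  rcases lt_trichotomy i j with h | h | h
  · have := allBelow_spec base_check j hj
    rw [Bool.and_eq_true] at this
    have := allBelow_spec this.2 i h
    rw [Bool.not_eq_true', beq_false_spec] at this
    exact absurd e'.symm this
  · exact h
  · have := allBelow_spec base_check i hi
    rw [Bool.and_eq_true] at this
    have := allBelow_spec this.2 j h
    rw [Bool.not_eq_true', beq_false_spec] at this
    exact absurd e' this

theorem el_zero : el 0 = 1 := by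
  rw [el]; simp [eP_zero.1, eP_zero.2]

end CfsgLib.PSpFourThree
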