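import Cfsg.Agent.PSpFourThree.Pres
import Cfsg.Agent.SmallIso.UnitaryFourTwo
import Cfsg.Agent.SmallIso.FieldChange

/-!
The model: `PSp₄(3)` on forty points, and the centralisers of its 2-central involutions.
-/

set_option autoImplicit false
set_option maxRecDepth 100000

namespace CfsgLib.PSpFourThree

open Matrix Cfsg
open CfsgLib.CosetEnum (gword gword_map allBelow)
open CfsgLib.UFourTwo (Sp3 permP permP_apply)

/-- a matrix from its rows, in the coordinates of `Fin 2 ⊕ Fin 2` -/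
def matOf (l : List (List ℕ)) : Matrix (Fin 2 ⊕ Fin 2) (Fin 2 ⊕ Fin 2) (ZMod 3) :=
  Matrix.of fun i j => (((l.getD (Sum.elim (fun a : Fin 2 => (a : ℕ)) (fun a => 2 + (a : ℕ)) i) []).getD
    (Sum.elim (fun a : Fin 2 => (a : ℕ)) (fun a => 2 + (a : ℕ)) j) 0 : ℕ) : ZMod 3)

/-- rows of a matrix inducing `pA` -/
def rowsA : List (List ℕ) := [[0, 0, 1, 0], [0, 1, 0, 0], [2, 0, 0, 0], [0, 0, 0, 1]]
/-- rows of a matrix inducing `pB` -/
def rowsB : List (List ℕ) := [[0, 0, 1, 0], [0, 1, 0, 0], [2, 0, 1, 0], [0, 0, 0, 1]]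
/-- rows of a matrix inducing `pW` -/
def rowsW : List (List ℕ) := [[0, 1, 0, 0], [1, 0, 0, 0], [0, 0, 0, 1], [0, 0, 1, 0]]

theorem mats_sp : matOf rowsA ∈ Matrix.symplecticGroup (Fin 2) (ZMod 3) ∧
    matOf rowsB ∈ Matrix.symplecticGroup (Fin 2) (ZMod 3) ∧
    matOf rowsW ∈ Matrix.symplecticGroup (Fin 2) (ZMod 3) ∧
    matOf matG ∈ Matrix.symplecticGroup (Fin 2) (ZMod 3) := by
  simp only [SymplecticGroup.mem_iff]
  decide +kernel

theorem mats_perm : (∀ i, CfsgLib.UFourTwo.idxP (matOf rowsA *ᵥ CfsgLib.UFourTwo.ptP i) = pA i) ∧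
    (∀ i, CfsgLib.UFourTwo.idxP (matOf rowsB *ᵥ CfsgLib.UFourTwo.ptP i) = pB i) ∧
    (∀ i, CfsgLib.UFourTwo.idxP (matOf rowsW *ᵥ CfsgLib.UFourTwo.ptP i) = pW i) ∧
    (∀ i, CfsgLib.UFourTwo.idxP (matOf matG *ᵥ CfsgLib.UFourTwo.ptP i) = pG i) := by
  decide +kernel

theorem mem_range_perms : pA ∈ permP.range ∧ pB ∈ permP.range ∧ pW ∈ permP.range ∧
    pG ∈ permP.range := by
  obtain ⟨h1, h2, h3, h4⟩ := mats_sp
  obtain ⟨e1, e2, e3, e4⟩ := mats_perm
  exact ⟨⟨⟨_, h1⟩, Equiv.ext e1⟩, ⟨⟨_, h2⟩, Equiv.ext e2⟩, ⟨⟨_, h3⟩, Equiv.ext e3⟩,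
    ⟨⟨_, h4⟩, Equiv.ext e4⟩⟩

theorem el_hom : ∀ i < 576, ∀ j < 576, el (mul5 i j) = el i * el j := fun _ hi _ hj =>
  (el_mul hi hj).2

/-- A numbering is generated by its values at `uG` and `vG`. -/
theorem hom5_mem {G : Type*} [Group G] {v : ℕ → G}
    (hv : ∀ i < 576, ∀ j < 576, v (mul5 i j) = v i * v j) {S : Subgroup G} (hu : v uG ∈ S)
    (hw : v vG ∈ S) {w : List ℕ} (hw4 : ∀ x ∈ w, x < 4) : v (evalW w) ∈ S := by
  rw [← hom5_eval hv 1 w hw4]
  refine list_prod_mem fun y hy => ?_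
  obtain ⟨x, hx, rfl⟩ := List.mem_map.1 hy
  have := hw4 x hx
  interval_cases x
  exacts [hu, inv_mem hu, hw, inv_mem hw]

theorem el_words : evalW [2, 0, 3, 0, 3, 0] = 12 ∧ evalW [1, 3] = 24 ∧
    evalW [0, 0, 3, 1, 3, 1, 3] = 288 ∧ evalW [0, 2, 0, 2, 0, 2] = tI ∧
    imgs (el 12) = imgs pA ∧ imgs (el 24) = imgs pB ∧ imgs (el 288) = imgs pW := by
  decide +kernel

theorem el_mem {S : Subgroup (Equiv.Perm (Fin 40))} (hA : pA ∈ S) (hB : pB ∈ S) (hW : pW ∈ S)
    (i : ℕ) : el i ∈ S := by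
  have hP : ∀ a, eP a ∈ S := fun a => by
    refine list_prod_mem fun y hy => ?_
    obtain ⟨x, -, rfl⟩ := List.mem_map.1 hy
    cases (x == 0) <;> assumption
  exact mul_mem (mul_mem (hP _) (mul_mem (mul_mem hW (hP _)) hW)) (pow_mem hW _)

/-- the model group -/
noncomputable abbrev Rg : Subgroup (Equiv.Perm (Fin 40)) := permP.range

theorem el_mem_range (i : ℕ) : el i ∈ Rg :=
  el_mem mem_range_perms.1 mem_range_perms.2.1 mem_range_perms.2.2.1 i

/-- the generated subgroup -/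
def Xg : Subgroup (Equiv.Perm (Fin 40)) := Subgroup.closure {el uG, el vG, pG}

theorem Xg_le : Xg ≤ Rg := by
  refine (Subgroup.closure_le _).2 ?_
  rintro y (rfl | rfl | rfl)
  exacts [el_mem_range _, el_mem_range _, mem_range_perms.2.2.2]

theorem el_mem_Xg (i : ℕ) : el i ∈ Xg := by
  have hu : el uG ∈ Xg := Subgroup.subset_closure (Or.inl rfl)
  have hv : el vG ∈ Xg := Subgroup.subset_closure (Or.inr (Or.inl rfl))
  obtain ⟨h1, h2, h3, -, e1, e2, e3⟩ := el_words
  refine el_mem ?_ ?_ ?_ i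
  · rw [← imgs_injective e1, ← h1]; exact hom5_mem el_hom hu hv (by decide)
  · rw [← imgs_injective e2, ← h2]; exact hom5_mem el_hom hu hv (by decide)
  · rw [← imgs_injective e3, ← h3]; exact hom5_mem el_hom hu hv (by decide)

/-- one round of conjugation by the generators -/
noncomputable def grow40 (L : List (List ℕ)) : List (List ℕ) :=
  (L ++ L.flatMap fun x => [el uG, el vG, pG].map fun y =>
    comp40 (comp40 (imgs y) x) (imgs y⁻¹)).eraseDups

/-- the conjugates of the centre reached in the given number of rounds -/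
noncomputable def orbit40 : ℕ → List (List ℕ)
  | 0 => [imgs (el tI)]
  | n + 1 => grow40 (orbit40 n)

theorem orbit40_check : 45 ≤ (orbit40 8).length ∧ (orbit40 8).Nodup := by
  decide +kernel

theorem orbit40_rep : ∀ n, ∀ x ∈ orbit40 n, ∃ a ∈ Xg, imgs (a * el tI * a⁻¹) = x := by
  intro n
  induction n with
  | zero =>
    intro x hx
    rw [orbit40, List.mem_singleton] at hx
    exact ⟨1, one_mem _, by rw [one_mul, inv_one, mul_one, hx]⟩
  | succ n ih =>
    intro x hx
    rw [orbit40, grow40, List.mem_eraseDups, List.mem_append] at hx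
    rcases hx with hx | hx
    · exact ih x hx
    · obtain ⟨y, hy, hx⟩ := List.mem_flatMap.1 hx
      obtain ⟨b, hb, rfl⟩ := List.mem_map.1 hx
      obtain ⟨a, ha, hay⟩ := ih y hy
      refine ⟨b * a, mul_mem (Subgroup.subset_closure ?_) ha, ?_⟩
      · simpa [Set.mem_insert_iff] using hb
      · rw [show b * a * el tI * (b * a)⁻¹ = b * (a * el tI * a⁻¹) * b⁻¹ by group, imgs_mul,
          imgs_mul, hay]

theorem el_comm_t {i : ℕ} (hi : i < 576) : el i * el tI = el tI * el i := by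
  rw [← el_hom i hi _ const_lt.1, ← el_hom _ const_lt.1 i hi,
    com5_spec.1 (inv5_lt hi).2.2.2.2]

theorem card_Rg_le : 45 * 576 ≤ Nat.card Xg := by
  classical
  obtain ⟨hlen, hnd⟩ := orbit40_check
  choose a ha hax using fun i : Fin (orbit40 8).length => orbit40_rep 8 _ (List.getElem_mem i.2)
  let F : Fin (orbit40 8).length × Fin 576 → Xg := fun p =>
    ⟨a p.1 * el p.2, mul_mem (ha _) (el_mem_Xg _)⟩
  have hF : Function.Injective F := by
    rintro ⟨i, x⟩ ⟨j, y⟩ e
    have e' : a i * el x = a j * el y := congrArg Subtype.val e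
    have hc : ∀ (z : Fin 576) (b : Equiv.Perm (Fin 40)),
        b * el z * el tI * (b * el z)⁻¹ = b * el tI * b⁻¹ := by
      intro z b
      rw [show b * el z * el tI * (b * el z)⁻¹ = b * (el z * el tI) * (el z)⁻¹ * b⁻¹ by group,
        el_comm_t z.2]
      group
    have hij : i = j := by
      have := congrArg (fun b : Equiv.Perm (Fin 40) => imgs (b * el tI * b⁻¹)) e'
      simp only [hc, hax] at this
      exact Fin.ext (hnd.getElem_inj_iff.1 this)
    subst hij
    exact Prod.ext rfl (Fin.ext (el_inj x.2 y.2 (mul_left_cancel e')))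
  have hle := Nat.card_le_card_of_injective F hF
  rw [Nat.card_prod, Nat.card_fin, Nat.card_fin] at hle
  exact le_trans (Nat.mul_le_mul_right 576 hlen) hle

/-- `PSp₄(3)` acts faithfully on the forty points. -/
theorem exists_pspRange : ∃ e : Cfsg.PSp 2 (ZMod 3) ≃* Rg, IsSimpleGroup (Cfsg.PSp 2 (ZMod 3)) ∧
    Nat.card (Cfsg.PSp 2 (ZMod 3)) = 25920 ∧ Function.Bijective e := by
  classical
  haveI : Fact (Nat.Prime 3) := ⟨Nat.prime_three⟩
  have hperf : commutator Sp3 = ⊤ :=
    CfsgLib.Classical.Symp.commutator_eq_top (Or.inr (Or.inl ⟨rfl, by simp⟩))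
  have hsP := CfsgLib.Classical.Symp.isSimpleGroup_quotient_center (m := 2) (F := ZMod 3) (by norm_num) hperf
  have hcP : Subgroup.center Sp3 ≤ permP.ker := by
    intro z hz
    refine MonoidHom.mem_ker.2 (Equiv.ext fun i => ?_)
    show CfsgLib.UFourTwo.idxP (z.1 *ᵥ CfsgLib.UFourTwo.ptP i) = i
    rcases CfsgLib.Classical.Symp.mem_center_iff.1 hz with h | h
    · rw [h, one_mulVec, CfsgLib.UFourTwo.idxP_ptP]
    · rw [h, neg_mulVec, one_mulVec, CfsgLib.UFourTwo.idxP_neg, CfsgLib.UFourTwo.idxP_ptP]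
  have hfP : permP ≠ 1 := by
    intro h
    obtain ⟨x, hx⟩ := mem_range_perms.1
    rw [h] at hx
    exact absurd (congrArg imgs hx) (by
      show imgs 1 ≠ imgs pA
      decide +kernel)
  have hinj := CfsgLib.UFourTwo.injective_lift_center _ hsP hcP hfP
  have hrange : (QuotientGroup.lift _ permP hcP).range = Rg := by
    ext y
    constructor
    · rintro ⟨x, rfl⟩
      obtain ⟨x, rfl⟩ := QuotientGroup.mk_surjective x
      exact ⟨x, rfl⟩
    · rintro ⟨x, rfl⟩
      exact ⟨QuotientGroup.mk x, rfl⟩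
  have hcard : Nat.card (Cfsg.PSp 2 (ZMod 3)) = 25920 := by
    have h1 := Subgroup.card_eq_card_quotient_mul_card_subgroup (Subgroup.center Sp3)
    rw [CfsgLib.Classical.Symp.card_symplecticGroup,
      CfsgLib.Classical.Symp.card_center_of_two_ne_zero (by norm_num)
        CfsgLib.UFourTwo.two_ne_zero_three, ZMod.card] at h1
    norm_num [Finset.prod_range_succ, -Nat.card_eq_fintype_card] at h1
    change _ = Nat.card (Cfsg.PSp 2 (ZMod 3)) * 2 at h1
    omega
  exact ⟨(MonoidHom.ofInjective hinj).trans (MulEquiv.subgroupCongr hrange), hsP, hcard,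
    MulEquiv.bijective _⟩

theorem card_Rg : Nat.card Rg = 25920 := by
  obtain ⟨e, -, h, -⟩ := exists_pspRange
  rw [← Nat.card_congr e.toEquiv, h]

theorem Xg_eq : Xg = Rg :=
  Subgroup.eq_of_le_of_card_ge Xg_le (by rw [card_Rg]; exact card_Rg_le)

/-- the numbering inside the model group -/
noncomputable def elR (i : ℕ) : Rg := ⟨el i, el_mem_range i⟩

/-- The model numbers the centraliser of its central involution. -/
theorem emb_elR : Emb5 elR (elR tI) := by
  classical
  refine ⟨fun i hi j hj => Subtype.ext (el_hom i hi j hj),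
    fun i hi j hj e => el_inj hi hj (congrArg Subtype.val e), ?_, rfl⟩
  obtain ⟨hlen, hnd⟩ := orbit40_check
  let C : Subgroup Rg := Subgroup.centralizer {elR tI}
  have horb : 45 ≤ Nat.card (MulAction.orbit (ConjAct Rg) (elR tI)) := by
    choose a ha hax using fun i : Fin (orbit40 8).length => orbit40_rep 8 _ (List.getElem_mem i.2)
    refine le_trans hlen ?_
    rw [← Nat.card_fin (orbit40 8).length]
    refine Nat.card_le_card_of_injective (fun i =>
      (⟨⟨a i, Xg_le (ha i)⟩ * elR tI * ⟨a i, Xg_le (ha i)⟩⁻¹, ?_⟩ :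
        MulAction.orbit (ConjAct Rg) (elR tI))) fun i j e => ?_
    · exact ConjAct.mem_orbit_conjAct.2 (isConj_iff.mpr ⟨(⟨a i, Xg_le (ha i)⟩ : Rg), rfl⟩).symm
    · have := congrArg (fun z : MulAction.orbit (ConjAct Rg) (elR tI) =>
        imgs ((z : Rg) : Equiv.Perm (Fin 40))) e
      simp only [elR, Subgroup.coe_mul, Subgroup.coe_inv] at this
      rw [hax, hax] at this
      exact Fin.ext (hnd.getElem_inj_iff.1 this)
  have hC : Nat.card C ≤ 576 := by
    have h1 := (MulAction.stabilizer (ConjAct Rg) (elR tI)).index_mul_card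
    rw [MulAction.index_stabilizer, ← Nat.card_coe_set_eq,
      ← Subgroup.nat_card_centralizer_nat_card_stabilizer,
      Nat.card_congr (ConjAct.ofConjAct (G := Rg)).toEquiv, card_Rg] at h1
    nlinarith
  have hmem : ∀ i : Fin 576, elR i ∈ C := fun i =>
    Subgroup.mem_centralizer_singleton_iff.mpr (Subtype.ext (el_comm_t i.2))
  let ψ : Fin 576 → C := fun i => ⟨elR i, hmem i⟩
  have hψi : Function.Injective ψ := fun i j e =>
    Fin.ext (el_inj i.2 j.2 (congrArg (fun z : C => ((z : Rg) : Equiv.Perm (Fin 40))) e))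
  have hψ : Function.Bijective ψ := (Nat.bijective_iff_injective_and_card ψ).2
    ⟨hψi, le_antisymm (by simpa using Nat.card_le_card_of_injective ψ hψi) (by simpa using hC)⟩
  intro y hy
  obtain ⟨i, hi⟩ := hψ.2 ⟨y, Subgroup.mem_centralizer_singleton_iff.mpr hy⟩
  exact ⟨i, i.2, congrArg Subtype.val hi⟩

/-- An involution central in a Sylow 2-subgroup of the model is conjugate to the central one. -/
theorem conj_central (U : Sylow 2 Rg) {t₀ : Rg} (ht₀ : orderOf t₀ = 2)
    (hU : t₀ ∈ (U : Subgroup Rg)) (hc : ∀ u ∈ (U : Subgroup Rg), u * t₀ = t₀ * u) :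
    ∃ b : Rg, b * elR tI * b⁻¹ = t₀ := by
  haveI : Fact (Nat.Prime 2) := ⟨Nat.prime_two⟩
  have h := emb_elR
  obtain ⟨T, hT⟩ := h.exists_sylow_eq
  obtain ⟨k, hk⟩ := MulAction.exists_smul_eq Rg U T
  have hmem : ∀ {u : Rg}, u ∈ (U : Subgroup Rg) → k * u * k⁻¹ ∈ (T : Subgroup Rg) := fun {u} hu => by
    rw [← hk]
    exact Subgroup.mem_map.mpr ⟨u, hu, rfl⟩
  obtain ⟨i, hi, hiS, hie⟩ : k * t₀ * k⁻¹ ∈ h.sylow := hT ▸ hmem hU
  have hi2 : i = 0 ∨ i = tI := sylow_laws.2.2.2.2 i hi hiS fun j hj hjS => by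
    have hjT : elR j ∈ (T : Subgroup Rg) := hT ▸ ⟨j, hj, hjS, rfl⟩
    rw [← hk] at hjT
    obtain ⟨u, hu, hue⟩ := Subgroup.mem_map.1 hjT
    refine (h.com_iff hi hj).2 ?_
    rw [hie, ← hue]
    show k * t₀ * k⁻¹ * (k * u * k⁻¹) = k * u * k⁻¹ * (k * t₀ * k⁻¹)
    calc k * t₀ * k⁻¹ * (k * u * k⁻¹) = k * (t₀ * u) * k⁻¹ := by group
      _ = k * (u * t₀) * k⁻¹ := by rw [hc u hu]
      _ = _ := by group
  rcases hi2 with rfl | rfl
  · rw [h.map_zero] at hie
    exact absurd (conj_eq_one_iff.1 hie.symm) (CfsgLib.StronglyEmbedded.orderOf_two_iff.1 ht₀).2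
  · exact ⟨k⁻¹, by rw [hie]; group⟩

theorem sat_model : Sat5 el pG 0 := by
  have h : ((relG 0).all fun w => imgs (gword (lets5 el pG) w) == imgs 1) = true := by
    decide +kernel
  intro w hw
  exact imgs_injective (beq_iff_eq.1 (List.all_eq_true.1 h w hw))

/-- A group of the right order with the relations is the model. -/
theorem iso_model {G : Type*} [Group G] [Finite G] {f : ℕ → G} {s g : G} (h : Emb5 f s)
    (hG : Nat.card G = 25920) (hs : Sat5 f g 0) : Nonempty (G ≃* Cfsg.PSp 2 (ZMod 3)) := by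
  classical
  obtain ⟨eR, hsimp, -, -⟩ := exists_pspRange
  haveI : IsSimpleGroup Rg := eR.symm.isSimpleGroup
  let v : ℕ → G × Equiv.Perm (Fin 40) := fun i => (f i, el i)
  have hv : ∀ i < 576, ∀ j < 576, v (mul5 i j) = v i * v j := fun i hi j hj =>
    Prod.ext (h.mul i hi j hj) (el_hom i hi j hj)
  have hsv : Sat5 v (g, pG) 0 := by
    intro w hw
    refine Prod.ext ?_ ?_
    · show MonoidHom.fst G (Equiv.Perm (Fin 40)) (gword (lets5 v (g, pG)) w) = 1
      rw [gword_map, show (fun x => MonoidHom.fst G (Equiv.Perm (Fin 40)) (lets5 v (g, pG) x)) =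
        lets5 f g from funext fun x => lets5_map _ v _ x]
      exact hs w hw
    · show MonoidHom.snd G (Equiv.Perm (Fin 40)) (gword (lets5 v (g, pG)) w) = 1
      rw [gword_map, show (fun x => MonoidHom.snd G (Equiv.Perm (Fin 40)) (lets5 v (g, pG) x)) =
        lets5 el pG from funext fun x => lets5_map _ v _ x]
      exact sat_model w hw
  obtain ⟨hb1, hb2⟩ := enum_zero v hv (g, pG) hsv
  set H := Subgroup.closure ({v uG, v vG, (g, pG)} : Set (G × Equiv.Perm (Fin 40))) with hH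
  set D := imgSub5 v hv
  let ψ : Fin 576 → D := fun i => ⟨v i, i, i.2, rfl⟩
  have hψ : Function.Surjective ψ := by
    rintro ⟨_, i, hi, rfl⟩
    exact ⟨⟨i, hi⟩, rfl⟩
  have hDH : Nat.card (D ⊓ H : Subgroup _) ≤ 576 :=
    (Nat.card_le_card_of_injective _ (Subgroup.inclusion_injective inf_le_left)).trans
      ((Nat.card_le_card_of_surjective ψ hψ).trans (by rw [Nat.card_fin]))
  have hmul := Subgroup.relIndex_mul_relIndex ⊥ (D ⊓ H) H bot_le inf_le_right
  rw [Subgroup.relIndex_bot_left, Subgroup.relIndex_bot_left, Subgroup.inf_relIndex_right] at hmul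
  have hle : Nat.card H ≤ 25920 := by
    rw [← hmul]
    exact (Nat.mul_le_mul hDH hb1).trans (le_of_eq rfl)
  have hsnd : H.map (MonoidHom.snd G (Equiv.Perm (Fin 40))) = Rg := by
    rw [← Xg_eq, hH, MonoidHom.map_closure, Set.image_insert_eq, Set.image_insert_eq,
      Set.image_singleton]
    rfl
  let π2 : H →* Rg := ((MonoidHom.snd G (Equiv.Perm (Fin 40))).comp H.subtype).codRestrict Rg
    fun x => hsnd ▸ Subgroup.mem_map_of_mem _ x.2
  have h2 : Function.Surjective π2 := by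
    rintro ⟨y, hy⟩
    rw [← hsnd] at hy
    obtain ⟨x, hx, rfl⟩ := hy
    exact ⟨⟨x, hx⟩, rfl⟩
  have hb2' : Function.Bijective π2 := (Nat.bijective_iff_surjective_and_card π2).2
    ⟨h2, le_antisymm (by rw [card_Rg]; exact hle) (Nat.card_le_card_of_surjective _ h2)⟩
  let e2 := MulEquiv.ofBijective π2 hb2'
  haveI : IsSimpleGroup H := e2.isSimpleGroup
  let π1 := (MonoidHom.fst G (Equiv.Perm (Fin 40))).comp H.subtype
  have hinj : Function.Injective π1 := by
    rw [← MonoidHom.ker_eq_bot_iff]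
    refine (IsSimpleGroup.eq_bot_or_eq_top_of_normal π1.ker inferInstance).resolve_right ?_
    intro htop
    have htH : v tI ∈ H := by
      rw [← el_words.2.2.2.1]
      exact hom5_mem hv (Subgroup.subset_closure (Or.inl rfl))
        (Subgroup.subset_closure (Or.inr (Or.inl rfl))) (by decide)
    have hmem : (⟨v tI, htH⟩ : H) ∈ π1.ker := by rw [htop]; trivial
    have : f tI = f 0 := by rw [h.map_zero]; exact MonoidHom.mem_ker.1 hmem
    exact absurd (h.inj _ const_lt.1 0 (by norm_num) this) (by decide)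
  have hb1' : Function.Bijective π1 := (Nat.bijective_iff_injective_and_card π1).2
    ⟨hinj, by rw [Nat.card_congr e2.toEquiv, card_Rg, hG]⟩
  exact ⟨((MulEquiv.ofBijective π1 hb1').symm.trans e2).trans eR.symm⟩

end CfsgLib.PSpFourThree
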