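import Cfsg.Agent.PSpFourThree.RelWords
import Cfsg.Agent.PSpFourThree.Enum0.Upper
import Cfsg.Agent.PSpFourThree.Enum1.Upper
import Cfsg.Agent.PSpFourThree.Enum2.Upper
import Cfsg.Agent.PSpFourThree.Enum3.Upper

/-!
The index bounds from the four certificates.
-/

set_option autoImplicit false
set_option maxRecDepth 100000

namespace CfsgLib.PSpFourThree

open CfsgLib.CosetEnum (CertData FactsChecked checkRow gword gword_cons gword_nil)

variable {G : Type*} [Group G]

theorem hom5_zero {v : ℕ → G} (hv : ∀ i < 576, ∀ j < 576, v (mul5 i j) = v i * v j) : v 0 = 1 :=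
  mul_eq_left.1
    ((hv 0 (by norm_num) 0 (by norm_num)).symm.trans (by rw [(inv5_lt (by norm_num)).2.2.1]))

/-- The image of a numbering, as a subgroup. -/
def imgSub5 (v : ℕ → G) (hv : ∀ i < 576, ∀ j < 576, v (mul5 i j) = v i * v j) : Subgroup G where
  carrier := {a | ∃ i < 576, v i = a}
  one_mem' := ⟨0, by norm_num, hom5_zero hv⟩
  mul_mem' := by
    rintro _ _ ⟨i, hi, rfl⟩ ⟨j, hj, rfl⟩
    exact ⟨_, mul5_lt hi hj, hv i hi j hj⟩
  inv_mem' := by
    rintro _ ⟨i, hi, rfl⟩
    refine ⟨_, (inv5_lt hi).1, eq_inv_of_mul_eq_one_right ?_⟩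
    rw [← hv i hi _ (inv5_lt hi).1, (inv5_lt hi).2.1, hom5_zero hv]

theorem hom5_eval {v : ℕ → G} (hv : ∀ i < 576, ∀ j < 576, v (mul5 i j) = v i * v j) (g : G) :
    ∀ w : List ℕ, (∀ x ∈ w, x < 4) → gword (lets5 v g) w = v (evalW w)
  | [], _ => by rw [gword_nil]; exact (hom5_zero hv).symm
  | x :: w, hw => by
    obtain ⟨-, -, -, -, hu, hw', -⟩ := const_lt
    have hinv : ∀ {i}, i < 576 → v (inv5 i) = (v i)⁻¹ := fun {i} hi =>
      eq_inv_of_mul_eq_one_right (by rw [← hv i hi _ (inv5_lt hi).1, (inv5_lt hi).2.1, hom5_zero hv])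
    have hl : letI5 x < 576 ∧ lets5 v g x = v (letI5 x) := by
      have hx := hw x (by simp)
      interval_cases x
      · exact ⟨hu, rfl⟩
      · exact ⟨(inv5_lt hu).1, (hinv hu).symm⟩
      · exact ⟨hw', rfl⟩
      · exact ⟨(inv5_lt hw').1, (hinv hw').symm⟩
    rw [gword_cons, hom5_eval hv g w fun y hy => hw y (List.mem_cons_of_mem _ hy), evalW,
      hv _ hl.1 _ (evalW_lt w), hl.2]

/-- the words of a certificate are the relators, their inverses and the two generators -/
noncomputable def wordsOK5 (words : List (List ℕ)) (e : ℕ) : Bool :=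
  (words.take 18).all (fun w => (relG e).contains w || ((relG e).map revW).contains w) &&
    (words.drop 18).all fun w => [[0], [2]].contains w

theorem closure_lets5 (v : ℕ → G) (g : G) :
    Subgroup.closure {a | ∃ x < 6, lets5 v g x = a} = Subgroup.closure {v uG, v vG, g} := by
  refine le_antisymm ((Subgroup.closure_le _).2 ?_) (Subgroup.closure_mono ?_)
  · rintro _ ⟨x, hx, rfl⟩
    have h : ∀ y, y ∈ ({v uG, v vG, g} : Set G) → y ∈ Subgroup.closure {v uG, v vG, g} :=
      fun y hy => Subgroup.subset_closure hy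
    interval_cases x
    · exact h _ (Or.inl rfl)
    · exact inv_mem (h _ (Or.inl rfl))
    · exact h _ (Or.inr (Or.inl rfl))
    · exact inv_mem (h _ (Or.inr (Or.inl rfl)))
    · exact h _ (Or.inr (Or.inr rfl))
    · exact inv_mem (h _ (Or.inr (Or.inr rfl)))
  · rintro y (rfl | rfl | rfl)
    · exact ⟨0, by norm_num, rfl⟩
    · exact ⟨2, by norm_num, rfl⟩
    · exact ⟨4, by norm_num, rfl⟩

theorem bound_of_cert {C : CertData} {N : ℕ} (hN : FactsChecked C.ep C.iv C.words C.nr N)
    (hn : 0 < C.n) (h0 : C.node 0 = 0)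
    (hrow : ∀ i < C.n, checkRow C.ep C.iv N C.L C.node C.T C.tf C.n i = true)
    (hiv : ∀ x, C.iv x = x ^^^ 1) (hnr : C.nr = 18) (hL : C.L = 6) {e : ℕ}
    (hw : wordsOK5 C.words e = true) (v : ℕ → G)
    (hv : ∀ i < 576, ∀ j < 576, v (mul5 i j) = v i * v j) (g : G) (hs : Sat5 v g e) :
    (imgSub5 v hv).relIndex (Subgroup.closure {v uG, v vG, g}) ≤ C.n ∧
      (imgSub5 v hv).relIndex (Subgroup.closure {v uG, v vG, g}) ≠ 0 := by
  have hg : ∀ x, lets5 v g (C.iv x) = (lets5 v g x)⁻¹ := fun x => by rw [hiv]; exact lets5_inv v g x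
  simp only [wordsOK5, Bool.and_eq_true, List.all_eq_true, Bool.or_eq_true,
    List.contains_iff_mem] at hw
  have hrel : ∀ (k : ℕ) (w : List ℕ), C.words[k]? = some w → k < C.nr →
      gword (lets5 v g) w = 1 := by
    intro k w hk hlt
    rw [hnr] at hlt
    have hm : w ∈ C.words.take 18 :=
      List.mem_of_getElem? (i := k) (by rw [List.getElem?_take, if_pos hlt, hk])
    rcases hw.1 w hm with h | h
    · exact hs w h
    · obtain ⟨u, hu, rfl⟩ := List.mem_map.1 h
      rw [gword_revW, hs u hu, inv_one]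
  have hsub : ∀ (k : ℕ) (w : List ℕ), C.words[k]? = some w →
      gword (lets5 v g) w ∈ imgSub5 v hv := by
    intro k w hk
    by_cases hlt : k < 18
    · rw [hrel k w hk (hnr ▸ hlt)]; exact one_mem _
    · have hm : w ∈ C.words.drop 18 :=
        List.mem_of_getElem? (i := k - 18)
          (by rw [List.getElem?_drop, show 18 + (k - 18) = k by omega, hk])
      have h := hw.2 w hm
      simp only [List.mem_cons, List.not_mem_nil, or_false] at h
      rcases h with rfl | rfl
      · exact ⟨uG, const_lt.2.2.2.2.1, by simp [gword, lets5]⟩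
      · exact ⟨vG, const_lt.2.2.2.2.2.1, by simp [gword, lets5]⟩
  have h := CfsgLib.CosetEnum.relIndex_le hN hn h0 hrow (imgSub5 v hv) (lets5 v g) hg hrel hsub
  rwa [hL, closure_lets5] at h

theorem fixR_eq : fixR = [0, 445, 523, 143] := rfl

theorem words_ok : wordsOK5 Enum0.cert.words 0 = true ∧ wordsOK5 Enum1.cert.words 445 = true ∧
    wordsOK5 Enum2.cert.words 523 = true ∧ wordsOK5 Enum3.cert.words 143 = true := by
  decide +kernel

/-- With twist zero the index is at most 45. -/
theorem enum_zero (v : ℕ → G) (hv : ∀ i < 576, ∀ j < 576, v (mul5 i j) = v i * v j) (g : G)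
    (hs : Sat5 v g 0) :
    (imgSub5 v hv).relIndex (Subgroup.closure {v uG, v vG, g}) ≤ 45 ∧
      (imgSub5 v hv).relIndex (Subgroup.closure {v uG, v vG, g}) ≠ 0 :=
  bound_of_cert Enum0.facts Enum0.n_pos Enum0.node_zero Enum0.rows (fun _ => rfl) rfl rfl
    words_ok.1 v hv g hs

/-- With another twist everything lies in the centraliser. -/
theorem enum_twisted (v : ℕ → G) (hv : ∀ i < 576, ∀ j < 576, v (mul5 i j) = v i * v j) (g : G)
    {e : ℕ} (he : e ∈ fixR) (he0 : e ≠ 0) (hs : Sat5 v g e) : ∃ i < 576, v i = g := by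
  have hb : (imgSub5 v hv).relIndex (Subgroup.closure {v uG, v vG, g}) ≤ 1 ∧
      (imgSub5 v hv).relIndex (Subgroup.closure {v uG, v vG, g}) ≠ 0 := by
    rw [fixR_eq] at he
    simp only [List.mem_cons, List.not_mem_nil, or_false] at he
    rcases he with rfl | rfl | rfl | rfl
    · exact absurd rfl he0
    · exact bound_of_cert Enum1.facts Enum1.n_pos Enum1.node_zero Enum1.rows (fun _ => rfl) rfl rfl
        words_ok.2.1 v hv g hs
    · exact bound_of_cert Enum2.facts Enum2.n_pos Enum2.node_zero Enum2.rows (fun _ => rfl) rfl rfl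
        words_ok.2.2.1 v hv g hs
    · exact bound_of_cert Enum3.facts Enum3.n_pos Enum3.node_zero Enum3.rows (fun _ => rfl) rfl rfl
        words_ok.2.2.2 v hv g hs
  have h1 : (imgSub5 v hv).relIndex (Subgroup.closure {v uG, v vG, g}) = 1 := by omega
  exact Subgroup.relIndex_eq_one.1 h1 (Subgroup.subset_closure (Or.inr (Or.inr rfl)))

end CfsgLib.PSpFourThree
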