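import Cfsg.Agent.PSpFourThree.Facts

/-!
The letters and relators of the presentation.
-/

set_option autoImplicit false
set_option maxRecDepth 100000

namespace CfsgLib.PSpFourThree

open CfsgLib.CosetEnum (gword gword_cons gword_nil allBelow)

/-- The letters: the two generators of the centraliser, the involution, and their inverses. -/
def lets5 {G : Type*} [Group G] (f : ℕ → G) (g : G) (k : ℕ) : G :=
  ([f uG, (f uG)⁻¹, f vG, (f vG)⁻¹, g, g⁻¹][k]?).getD 1

/-- the inverse word -/
def revW (w : List ℕ) : List ℕ := w.reverse.map fun x => x ^^^ 1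

/-- the relators, depending on the twist `e` -/
def relG (e : ℕ) : List (List ℕ) :=
  relC ++ [[4, 4], [4] ++ wordC p1 ++ [5] ++ revW (wordC (phi p1)),
    [4] ++ wordC p2 ++ [5] ++ revW (wordC (phi p2)),
    [4] ++ wordC dR ++ ([4] ++ wordC dR) ++ ([4] ++ wordC dR) ++ revW (wordC e),
    [4] ++ wordC aR ++ [5] ++ wordC rR ++ ([4] ++ wordC aR ++ [5]) ++ revW (wordC rR)]

/-- `f` and `g` satisfy the relators with twist `e`. -/
def Sat5 {G : Type*} [Group G] (f : ℕ → G) (g : G) (e : ℕ) : Prop :=
  ∀ w ∈ relG e, gword (lets5 f g) w = 1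

theorem lets5_inv {G : Type*} [Group G] (f : ℕ → G) (g : G) (x : ℕ) :
    lets5 f g (x ^^^ 1) = (lets5 f g x)⁻¹ := by
  match x with
  | 0 => rfl
  | 1 => exact (inv_inv _).symm
  | 2 => rfl
  | 3 => exact (inv_inv _).symm
  | 4 => rfl
  | 5 => exact (inv_inv _).symm
  | n + 6 =>
    have h : ((n + 6) ^^^ 1) / 2 = (n + 6) / 2 := by
      rw [← Nat.shiftRight_one, Nat.shiftRight_xor_distrib, Nat.shiftRight_one, Nat.shiftRight_one]
      simp
    have h6 : 6 ≤ (n + 6) ^^^ 1 := by omega
    obtain ⟨m, hm⟩ := Nat.exists_eq_add_of_le' h6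
    rw [hm]
    exact inv_one.symm

theorem lets5_map {G K : Type*} [Group G] [Group K] (φ : G →* K) (f : ℕ → G) (g : G) (x : ℕ) :
    φ (lets5 f g x) = lets5 (fun i => φ (f i)) (φ g) x := by
  match x with
  | 0 => rfl
  | 1 => exact map_inv φ _
  | 2 => rfl
  | 3 => exact map_inv φ _
  | 4 => rfl
  | 5 => exact map_inv φ _
  | n + 6 => exact map_one φ

theorem gword_append {G : Type*} [Group G] (φ : ℕ → G) (v w : List ℕ) :
    gword φ (v ++ w) = gword φ v * gword φ w := by
  simp [gword, List.map_append, List.prod_append]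

theorem gword_revW {G : Type*} [Group G] (f : ℕ → G) (g : G) (w : List ℕ) :
    gword (lets5 f g) (revW w) = (gword (lets5 f g) w)⁻¹ :=
  CfsgLib.CosetEnum.gword_inverse _ _ (lets5_inv f g) w

/-- the index of a letter of the centraliser -/
noncomputable def letI5 (x : ℕ) : ℕ :=
  bif Nat.beq x 0 then uG else bif Nat.beq x 1 then inv5 uG else
    bif Nat.beq x 2 then vG else inv5 vG

/-- the index of a word -/
noncomputable def evalW : List ℕ → ℕ
  | [] => 0
  | x :: w => mul5 (letI5 x) (evalW w)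

/-- the checked words -/
noncomputable def wordsOK : Bool :=
  relC.all (fun w => w.all (fun x => Nat.blt x 4) && Nat.beq (evalW w) 0) &&
    ([p1, p2, phi p1, phi p2, dR, aR, rR] ++ fixR).all fun i =>
      (wordC i).all (fun x => Nat.blt x 4) && Nat.beq (evalW (wordC i)) i

theorem words_check : wordsOK = true := by decide +kernel

theorem evalW_lt : ∀ w : List ℕ, evalW w < 576
  | [] => by show (0 : ℕ) < 576; norm_num
  | x :: w => by
    refine mul5_lt ?_ (evalW_lt w)
    have h := (inv5_lt const_lt.2.2.2.2.1).1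
    have h' := (inv5_lt const_lt.2.2.2.2.2.1).1
    rw [letI5]
    cases Nat.beq x 0 <;> cases Nat.beq x 1 <;> cases Nat.beq x 2 <;>
      first | exact const_lt.2.2.2.2.1 | exact h | exact const_lt.2.2.2.2.2.1 | exact h'

theorem Emb5.gword_eval {G : Type*} [Group G] {f : ℕ → G} {s : G} (h : Emb5 f s) (g : G) :
    ∀ w : List ℕ, (∀ x ∈ w, x < 4) → gword (lets5 f g) w = f (evalW w)
  | [], _ => by rw [gword_nil]; exact h.map_zero.symm
  | x :: w, hw => by
    obtain ⟨-, -, -, -, hu, hv, -⟩ := const_lt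
    have hl : letI5 x < 576 ∧ lets5 f g x = f (letI5 x) := by
      have hx := hw x (by simp)
      interval_cases x
      · exact ⟨hu, rfl⟩
      · exact ⟨(inv5_lt hu).1, (h.map_inv hu).symm⟩
      · exact ⟨hv, rfl⟩
      · exact ⟨(inv5_lt hv).1, (h.map_inv hv).symm⟩
    rw [gword_cons, h.gword_eval g w fun y hy => hw y (List.mem_cons_of_mem _ hy), evalW,
      h.mul _ hl.1 _ (evalW_lt w), hl.2]

theorem Emb5.gword_wordC {G : Type*} [Group G] {f : ℕ → G} {s : G} (h : Emb5 f s) (g : G) {i : ℕ}
    (hi : i ∈ [p1, p2, phi p1, phi p2, dR, aR, rR] ++ fixR) :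
    gword (lets5 f g) (wordC i) = f i := by
  have hc := words_check
  rw [wordsOK, Bool.and_eq_true] at hc
  have := List.all_eq_true.1 hc.2 i hi
  simp only [Bool.and_eq_true, List.all_eq_true, blt_spec, beq_spec] at this
  rw [h.gword_eval g _ this.1, this.2]

theorem Emb5.gword_relC {G : Type*} [Group G] {f : ℕ → G} {s : G} (h : Emb5 f s) (g : G)
    {w : List ℕ} (hw : w ∈ relC) : gword (lets5 f g) w = 1 := by
  have hc := words_check
  rw [wordsOK, Bool.and_eq_true] at hc
  have := List.all_eq_true.1 hc.1 w hw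
  simp only [Bool.and_eq_true, List.all_eq_true, blt_spec, beq_spec] at this
  rw [h.gword_eval g _ this.1, this.2, h.map_zero]

end CfsgLib.PSpFourThree
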