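import Cfsg.Agent.PSpFourThree.Count
import Cfsg.Agent.PSpFourThree.RelWords

/-!
The relations satisfied by the centraliser and the exchanging involution.
-/

set_option autoImplicit false
set_option maxRecDepth 100000

namespace CfsgLib.PSpFourThree

open CfsgLib.CosetEnum (allBelow gword gword_cons gword_nil)
open CfsgLib.StronglyEmbedded (orderOf_two_iff orderOf_conj)

/-- the action of the element of order three times the involution -/
noncomputable def actD (k : ℕ) : ℕ := mPhi (findI (cj5 dR (eI k)) 16)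

theorem rel_check :
    allBelow (fun k => Nat.blt (findI (cj5 dR (eI k)) 16) 16 &&
      Nat.beq (eI (findI (cj5 dR (eI k)) 16)) (cj5 dR (eI k)) &&
      Nat.beq (actD (actD (actD k))) k &&
      impB (Nat.beq (actD k) k) (fixR.contains (eI k))) 16 = true ∧
    allBelow (fun i => impB (inP i && allBelow (fun k => com5 i (eI k)) 16) (inE i) &&
      impB (inP i && com5 (phi i) aR && Nat.beq (powN mul5 i 8) 0) (Nat.beq i 0 || Nat.beq i aI)) 576
      = true ∧
    ((List.range 576).filter fun i => com5 i yR && Nat.beq (powN mul5 i 9) 0).length = 9 ∧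
    ((List.range 576).filter fun i => isInv5 i && tTy i).length = 13 := by
  decide +kernel

theorem rel_consts : inP aI = true ∧ com5 (phi aI) aR = true ∧ inP yR = true ∧
    com5 (phi yR) aR = true ∧ mul5 (mul5 yR yR) yR = 0 ∧ isInv5 aR = true ∧ com5 aR aI = false ∧
    com5 rR yR = true ∧ powN mul5 rR 9 = 0 ∧ yR ≠ 0 := by
  decide +kernel

variable {G : Type*} [Group G] [Finite G] {f : ℕ → G} {s g : G}

omit [Finite G] in
theorem Emb5.pow_powN (h : Emb5 f s) {i : ℕ} (hi : i < 576) :
    ∀ k, powN mul5 i k < 576 ∧ f (powN mul5 i k) = f i ^ k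
  | 0 => ⟨by show (0 : ℕ) < 576; norm_num, by rw [powN, h.map_zero, pow_zero]⟩
  | k + 1 => by
    obtain ⟨l, e⟩ := h.pow_powN hi k
    exact ⟨mul5_lt l hi, by rw [powN, h.mul _ l _ hi, e, pow_succ]⟩

variable (st : Setup f s g)
include st

omit [Finite G] in
/-- The product with the element of order three has cube in the fixed points. -/
theorem Setup.cube_fixed : ∃ e ∈ fixR, e < 576 ∧ g * f dR * (g * f dR) * (g * f dR) = f e := by
  have h := st.emb
  have hd := const_lt.2.2.2.2.2.2.2.2.1
  set w := g * f dR with hw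
  have hact : Acts f w actD := by
    intro k hk
    have := allBelow_spec rel_check.1 k hk
    simp only [Bool.and_eq_true, blt_spec, beq_spec] at this
    obtain ⟨l, e⟩ := st.swap.acts (findI (cj5 dR (eI k)) 16) this.1.1.1
    refine ⟨l, ?_⟩
    rw [actD, ← e, this.1.1.2, h.map_cj hd (eI_lt hk), hw]
    group
  have hcube : Acts f (w * w * w) fun k => actD (actD (actD k)) := (hact.mul hact).mul hact
  have hfix : ∀ k < 16, w * w * w * f (eI k) * (w * w * w)⁻¹ = f (eI k) := by
    intro k hk
    have := allBelow_spec rel_check.1 k hk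
    simp only [Bool.and_eq_true, beq_spec] at this
    rw [(hcube k hk).2]
    exact congrArg (fun j => f (eI j)) this.1.2
  obtain ⟨c, hc, hce⟩ := h.surj (w * w * w) (mul_inv_eq_iff_eq_mul.1 (by
    have := hfix 1 (by norm_num)
    rwa [eI_consts.2.1, h.map_t] at this))
  have hcom : ∀ k < 16, com5 c (eI k) = true := fun k hk => (h.com_iff hc (eI_lt hk)).2 (by
    rw [hce]; exact mul_inv_eq_iff_eq_mul.1 (hfix k hk))
  have hcP : inP c = true := by
    have := hcom 2 (by norm_num)
    rwa [eI_consts.2.2.1] at this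
  have hcE := allBelow_spec rel_check.2.1 c hc
  rw [Bool.and_eq_true] at hcE
  obtain ⟨k, hk, rfl⟩ := (inE_laws hc).1
    (impB_spec hcE.1 (by rw [Bool.and_eq_true]; exact ⟨hcP, allBelow_intro hcom⟩))
  have hk' := allBelow_spec rel_check.1 k hk
  simp only [Bool.and_eq_true] at hk'
  have hw' : w * f (eI k) * w⁻¹ = f (eI k) := by rw [hce]; group
  have hak : actD k = k := ((eI_laws (hact k hk).1).2.2.2.2.1 k hk).2
    (h.inj _ (eI_lt (hact k hk).1) _ (eI_lt hk) ((hact k hk).2.symm.trans hw'))
  refine ⟨eI k, List.contains_iff_mem.1 (impB_spec hk'.2 (beq_spec.2 hak)), eI_lt hk, hce.symm⟩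

/-- The commutation relation. -/
theorem Setup.comm_rel : f rR * (g * f aR * g⁻¹) = g * f aR * g⁻¹ * f rR := by
  classical
  haveI : Fact (Nat.Prime 2) := ⟨Nat.prime_two⟩
  haveI : Fact (Nat.Prime 3) := ⟨Nat.prime_three⟩
  have h := st.emb
  obtain ⟨-, ha, -, -, -, -, -, -, -, haR, hr, hy⟩ := const_lt
  obtain ⟨haP, haA, hyP, hyA, hy3, haRv, hna, hry, hr9, hy0⟩ := rel_consts
  obtain ⟨hgs, hga, -⟩ := st.swap.conj_s h
  set x := g * f aR * g⁻¹ with hx
  have haRv' : IsConj s (f aR) := (st.type_iff haR haRv).2 (by decide +kernel)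
  have hxc : IsConj s x := haRv'.trans (isConj_iff.mpr ⟨g, rfl⟩)
  have hxs : x * s ≠ s * x := by
    intro e
    have hb : f aR * f aI = f aI * f aR := by
      rw [hx, ← hga] at e
      calc f aR * f aI = g⁻¹ * (g * f aR * g⁻¹ * (g * f aI * g⁻¹)) * g := by group
        _ = g⁻¹ * (g * f aI * g⁻¹ * (g * f aR * g⁻¹)) * g := by rw [e]
        _ = _ := by group
    rw [(h.com_iff haR ha).2 hb] at hna
    exact Bool.noConfusion hna
  have hcomP : ∀ {i : ℕ}, i < 576 → inP i = true →
      (com5 (phi i) aR = true ↔ f i * x = x * f i) := by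
    intro i hi hP
    obtain ⟨l1, -, l3⟩ := phi_lt hi hP
    have e : g * f (phi i) * g⁻¹ = f i := by rw [st.swap.conj _ l1 (phi_lt hi hP).2.1, l3]
    rw [h.com_iff l1 haR]
    constructor
    · intro hc
      rw [hx, ← e]
      calc g * f (phi i) * g⁻¹ * (g * f aR * g⁻¹) = g * (f (phi i) * f aR) * g⁻¹ := by group
        _ = g * (f aR * f (phi i)) * g⁻¹ := by rw [hc]
        _ = _ := by group
    · intro hc
      rw [hx, ← e] at hc
      calc f (phi i) * f aR = g⁻¹ * (g * f (phi i) * g⁻¹ * (g * f aR * g⁻¹)) * g := by group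
        _ = g⁻¹ * (g * f aR * g⁻¹ * (g * f (phi i) * g⁻¹)) * g := by rw [hc]
        _ = _ := by group
  set C := Subgroup.centralizer ({s} : Set G) with hC
  set K := C ⊓ Subgroup.centralizer ({x} : Set G) with hK
  have hmemK : ∀ {i : ℕ}, i < 576 → (f i ∈ K ↔ f i * x = x * f i) := fun {i} hi =>
    ⟨fun e => Subgroup.mem_centralizer_singleton_iff.mp e.2, fun e =>
      ⟨Subgroup.mem_centralizer_singleton_iff.mpr (h.comm_s hi),
        Subgroup.mem_centralizer_singleton_iff.mpr e⟩⟩
  -- its index is at most 32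
  have hcard18 : 18 ≤ Nat.card K := by
    let S := {u : G // IsConj s u ∧ u * s ≠ s * u}
    have hclass : Nat.card {u : G // IsConj s u} = 45 := by
      have h1 := (MulAction.stabilizer (ConjAct G) s).index_mul_card
      rw [MulAction.index_stabilizer, ← Nat.card_coe_set_eq,
        ← Subgroup.nat_card_centralizer_nat_card_stabilizer,
        Nat.card_congr (ConjAct.ofConjAct (G := G)).toEquiv, st.card_group, h.card_centralizer] at h1
      have heq : Nat.card {u : G // IsConj s u} = Nat.card (MulAction.orbit (ConjAct G) s) :=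
        Nat.card_congr (Equiv.subtypeEquivRight fun u => by
          rw [ConjAct.mem_orbit_conjAct]; exact isConj_comm)
      omega
    have hin : Nat.card {u : {u : G // IsConj s u} // (u : G) * s = s * u} = 13 := by
      let L := ((List.range 576).filter fun i => isInv5 i && tTy i).toFinset
      have hL : ∀ i, i ∈ L ↔ i < 576 ∧ isInv5 i = true ∧ tTy i = true := fun i => by simp [L]
      refine (Nat.card_eq_of_bijective (fun i : L => (⟨⟨f i.1,
        (st.type_iff ((hL _).1 i.2).1 ((hL _).1 i.2).2.1).2 ((hL _).1 i.2).2.2⟩,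
        h.comm_s ((hL _).1 i.2).1⟩ : {u : {u : G // IsConj s u} // (u : G) * s = s * u}))
        ⟨fun i j e => Subtype.ext (h.inj _ ((hL _).1 i.2).1 _ ((hL _).1 j.2).1
          (congrArg (fun u => u.1.1) e)), fun u => ?_⟩).symm.trans ?_
      · obtain ⟨i, hi, e⟩ := h.surj u.1.1 u.2
        exact ⟨⟨i, (hL i).2 ⟨hi, st.index_of_conj hi (e ▸ u.1.2)⟩⟩, Subtype.ext (Subtype.ext e)⟩
      · rw [Nat.card_eq_finsetCard, List.toFinset_card_of_nodup (List.nodup_range.filter _)]
        exact rel_check.2.2.2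
    have hS : Nat.card S = 32 := by
      have h1 := Nat.card_congr (Equiv.sumCompl fun u : {u : G // IsConj s u} => (u : G) * s = s * u)
      rw [Nat.card_sum, hin, hclass] at h1
      have : Nat.card S = Nat.card {u : {u : G // IsConj s u} // ¬ (u : G) * s = s * u} :=
        Nat.card_congr (Equiv.subtypeSubtypeEquivSubtypeInter (fun u : G => IsConj s u)
          (fun u : G => ¬ u * s = s * u)).symm
      omega
    have hmove : ∀ c : C, IsConj s ((c : G) * x * (c : G)⁻¹) ∧
        (c : G) * x * (c : G)⁻¹ * s ≠ s * ((c : G) * x * (c : G)⁻¹) := by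
      intro c
      have hcs : (c : G) * s = s * (c : G) := Subgroup.mem_centralizer_singleton_iff.mp c.2
      refine ⟨hxc.trans (isConj_iff.mpr ⟨c, rfl⟩), fun e => hxs ?_⟩
      have hcs' : (c : G)⁻¹ * s = s * (c : G)⁻¹ := (Commute.inv_left hcs).eq
      calc x * s = x * s * (c : G)⁻¹ * c := by group
        _ = x * ((c : G)⁻¹ * s) * c := by rw [hcs']; group
        _ = (c : G)⁻¹ * ((c : G) * x * (c : G)⁻¹ * s) * c := by group
        _ = (c : G)⁻¹ * (s * ((c : G) * x * (c : G)⁻¹)) * c := by rw [e]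
        _ = ((c : G)⁻¹ * s) * (c : G) * x := by group
        _ = s * x := by rw [hcs']; group
    let F : C ⧸ K.subgroupOf C → S := fun q =>
      ⟨(q.out : G) * x * (q.out : G)⁻¹, hmove q.out⟩
    have hF : Function.Injective F := by
      intro a b e
      have e' : (a.out : G) * x * (a.out : G)⁻¹ = (b.out : G) * x * (b.out : G)⁻¹ :=
        congrArg Subtype.val e
      rw [← a.out_eq', ← b.out_eq', QuotientGroup.eq, Subgroup.mem_subgroupOf]
      refine ⟨(a.out⁻¹ * b.out).2, Subgroup.mem_centralizer_singleton_iff.mpr ?_⟩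
      simp only [Subgroup.coe_mul, Subgroup.coe_inv]
      calc (a.out : G)⁻¹ * b.out * x = (a.out : G)⁻¹ * ((b.out : G) * x * (b.out : G)⁻¹) * b.out := by
            group
        _ = (a.out : G)⁻¹ * ((a.out : G) * x * (a.out : G)⁻¹) * b.out := by rw [e']
        _ = _ := by group
    have hidx : Nat.card (C ⧸ K.subgroupOf C) ≤ 32 := hS ▸ Nat.card_le_card_of_injective F hF
    have h1 := Subgroup.card_eq_card_quotient_mul_card_subgroup (K.subgroupOf C)
    rw [h.card_centralizer,
      Nat.card_congr (Subgroup.subgroupOfEquivOfLe (inf_le_left : K ≤ C)).toEquiv] at h1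
    nlinarith
  -- the involution of the common centraliser is self-centralising
  have hsmall : ∀ y : G, y ∈ K → y * f aI = f aI * y → y ^ 8 = 1 → y = 1 ∨ y = f aI := by
    intro y hyK hya hy8
    obtain ⟨i, hi, rfl⟩ := h.surj y (Subgroup.mem_centralizer_singleton_iff.mp hyK.1)
    have hP := (h.inP_iff hi).2 hya
    have := allBelow_spec rel_check.2.1 i hi
    rw [Bool.and_eq_true] at this
    have h8 : powN mul5 i 8 = 0 := by
      obtain ⟨l, e⟩ := h.pow_powN hi 8
      exact h.inj _ l 0 (by norm_num) (by rw [e, hy8, h.map_zero])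
    have := impB_spec this.2 (by
      rw [Bool.and_eq_true, Bool.and_eq_true, beq_spec]
      exact ⟨⟨hP, (hcomP hi hP).2 ((hmemK hi).1 hyK)⟩, h8⟩)
    rw [Bool.or_eq_true, beq_spec, beq_spec] at this
    rcases this with rfl | rfl
    · exact .inl h.map_zero
    · exact .inr rfl
  have hdvd : Nat.card K ∣ 576 := h.card_centralizer ▸ Subgroup.card_dvd_of_le inf_le_left
  have haK : f aI ∈ K := (hmemK ha).2 ((hcomP ha haP).1 haA)
  have ha2 : orderOf (⟨f aI, haK⟩ : K) = 2 := by
    rw [← Subgroup.orderOf_coe]; exact h.orderOf_invol ha const_cls.2.1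
  have h4 : ¬ 4 ∣ Nat.card K := by
    intro h4
    obtain ⟨U, hU, hle⟩ := Sylow.exists_subgroup_card_pow_succ (p := 2) (n := 1)
      (H := Subgroup.zpowers (⟨f aI, haK⟩ : K)) (by simpa using h4)
      (by rw [Nat.card_zpowers, ha2, pow_one])
    have hcomm := IsPGroup.commutative_of_card_eq_prime_sq (p := 2) hU
    have hall : ∀ u : U, (u : K) = 1 ∨ (u : K) = ⟨f aI, haK⟩ := by
      intro u
      have hu4 : u ^ 4 = 1 := by
        rw [show 4 = Nat.card U by rw [hU]; rfl]; exact pow_card_eq_one'
      have hu4' : ((u : K) : G) ^ 4 = 1 := by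
        have := congrArg (fun z : U => ((z : K) : G)) hu4
        simpa using this
      have hc : ((u : K) : G) * f aI = f aI * ((u : K) : G) :=
        congrArg (fun z : U => ((z : K) : G))
          (hcomm u ⟨⟨f aI, haK⟩, hle (Subgroup.mem_zpowers _)⟩)
      rcases hsmall _ (u : K).2 hc (by rw [show 8 = 4 * 2 from rfl, pow_mul, hu4', one_pow]) with e | e
      · exact .inl (Subtype.ext e)
      · exact .inr (Subtype.ext e)
    have : Nat.card U ≤ 2 := by
      refine (Nat.card_le_card_of_injective (fun u : U => decide ((u : K) = 1))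
        (fun u v e => Subtype.ext ?_)).trans (by simp)
      have e' : (u : K) = 1 ↔ (v : K) = 1 := by simpa using e
      rcases hall u with e1 | e1 <;> rcases hall v with e2 | e2
      · rw [e1, e2]
      · rw [e1, e'.1 e1]
      · rw [e2, e'.2 e2]
      · rw [e1, e2]
    rw [hU] at this
    norm_num at this
  have h2 : 2 ∣ Nat.card K := ha2 ▸ orderOf_dvd_natCard _
  have hcard : Nat.card K = 18 := by
    have hle : Nat.card K ≤ 576 := Nat.le_of_dvd (by norm_num) hdvd
    have key : ∀ n < 577, n ∣ 576 → ¬ 4 ∣ n → 2 ∣ n → 18 ≤ n → n = 18 := by decide +kernel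
    exact key _ (by omega) hdvd h4 h2 hcard18
  obtain ⟨O, hO⟩ := Sylow.exists_subgroup_card_pow_prime (G := K) 3 (n := 2) (by rw [hcard]; norm_num)
  have hidx : O.index = 2 := by
    have := O.index_mul_card
    rw [hO, hcard] at this
    omega
  have hcommO := IsPGroup.commutative_of_card_eq_prime_sq (p := 3) hO
  have hyK : f yR ∈ K := (hmemK hy).2 ((hcomP hy hyP).1 hyA)
  have hyO : (⟨f yR, hyK⟩ : K) ∈ O := by
    have hy4 : f yR * f yR * (f yR * f yR) = f yR := by
      have := congrArg f hy3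
      rw [h.mul _ (mul5_lt hy hy) _ hy, h.mul _ hy _ hy, h.map_zero] at this
      rw [← mul_assoc, this, one_mul]
    have := Subgroup.mul_self_mem_of_index_two hidx (⟨f yR * f yR, mul_mem hyK hyK⟩ : K)
    rwa [show (⟨f yR * f yR, mul_mem hyK hyK⟩ : K) * ⟨f yR * f yR, mul_mem hyK hyK⟩ = ⟨f yR, hyK⟩
      from Subtype.ext hy4] at this
  let R := ((List.range 576).filter fun i => com5 i yR && Nat.beq (powN mul5 i 9) 0).toFinset
  have hR : ∀ i, i ∈ R ↔ i < 576 ∧ com5 i yR = true ∧ powN mul5 i 9 = 0 := fun i => by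
    simp [R, beq_spec]
  have hpre : ∀ o : O, ∃ i : R, f i.1 = ((o : K) : G) := by
    intro o
    obtain ⟨i, hi, e⟩ := h.surj _ (Subgroup.mem_centralizer_singleton_iff.mp (o : K).2.1)
    refine ⟨⟨i, (hR i).2 ⟨hi, (h.com_iff hi hy).2 ?_, ?_⟩⟩, e⟩
    · rw [e]
      exact congrArg (fun z : O => ((z : K) : G)) (hcommO o ⟨_, hyO⟩)
    · obtain ⟨l, e'⟩ := h.pow_powN hi 9
      refine h.inj _ l 0 (by norm_num) ?_
      rw [e', e, h.map_zero]
      have : o ^ 9 = 1 := by rw [show 9 = Nat.card O by rw [hO]; rfl]; exact pow_card_eq_one'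
      have := congrArg (fun z : O => ((z : K) : G)) this
      simpa using this
  choose ψ hψ using hpre
  have hψb : Function.Bijective ψ := (Nat.bijective_iff_injective_and_card ψ).2
    ⟨fun a b e => Subtype.ext (Subtype.ext (by rw [← hψ a, ← hψ b, e])), by
      rw [hO, Nat.card_eq_finsetCard, List.toFinset_card_of_nodup (List.nodup_range.filter _)]
      exact rel_check.2.2.1.symm⟩
  obtain ⟨o, ho⟩ := hψb.2 ⟨rR, (hR rR).2 ⟨hr, hry, hr9⟩⟩
  refine (hmemK hr).1 ?_
  have := hψ o
  rw [ho] at this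
  rw [this]
  exact (o : K).2

/-- The relations hold for some twist. -/
theorem Setup.exists_sat : ∃ e ∈ fixR, Sat5 f g e := by
  obtain ⟨e, he, -, hcube⟩ := st.cube_fixed
  refine ⟨e, he, fun w hw => ?_⟩
  have h := st.emb
  obtain ⟨-, -, -, -, -, -, hp1, hp2, -, haR, hr, -⟩ := const_lt
  obtain ⟨hP1, hP2, -⟩ := swap_consts
  have hw4 : gword (lets5 f g) [4] = g := by simp [gword, lets5]
  have hw5 : gword (lets5 f g) [5] = g⁻¹ := by simp [gword, lets5]
  have hC : ∀ i, i ∈ [p1, p2, phi p1, phi p2, dR, aR, rR] ++ fixR →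
      gword (lets5 f g) (wordC i) = f i := fun i hi => h.gword_wordC g hi
  rw [relG, List.mem_append] at hw
  rcases hw with hw | hw
  · exact h.gword_relC g hw
  simp only [List.mem_cons, List.not_mem_nil, or_false] at hw
  rcases hw with rfl | rfl | rfl | rfl | rfl
  · rw [gword_cons, gword_cons, gword_nil, mul_one]; exact st.swap.sq
  · rw [gword_append, gword_append, gword_append, gword_revW, hw4, hw5, hC _ (by simp),
      hC _ (by simp), mul_inv_eq_one]
    exact st.swap.conj _ hp1 hP1
  · rw [gword_append, gword_append, gword_append, gword_revW, hw4, hw5, hC _ (by simp),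
      hC _ (by simp), mul_inv_eq_one]
    exact st.swap.conj _ hp2 hP2
  · simp only [gword_append, gword_revW, hw4]
    rw [hC dR (by simp), hC e (List.mem_append_right _ he), mul_inv_eq_one]
    exact hcube
  · simp only [gword_append, gword_revW, hw4, hw5]
    rw [hC aR (by simp), hC rR (by simp)]
    have hsq : g * f aR * g⁻¹ * (g * f aR * g⁻¹) = 1 := by
      calc g * f aR * g⁻¹ * (g * f aR * g⁻¹) = g * (f aR * f aR) * g⁻¹ := by group
        _ = 1 := by
          rw [(orderOf_two_iff.1 (h.orderOf_invol haR rel_consts.2.2.2.2.2.1)).1]; group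
    calc g * f aR * g⁻¹ * f rR * (g * f aR * g⁻¹) * (f rR)⁻¹
        = g * f aR * g⁻¹ * (f rR * (g * f aR * g⁻¹)) * (f rR)⁻¹ := by group
      _ = (g * f aR * g⁻¹ * (g * f aR * g⁻¹)) * (f rR * (f rR)⁻¹) := by rw [st.comm_rel]; group
      _ = 1 := by rw [hsq, mul_inv_cancel, one_mul]

end CfsgLib.PSpFourThree
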