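import Cfsg.Agent.PSpFourThree.GlueFacts

/-!
Checked facts about the centraliser of `aI` and its automorphisms exchanging `tI` and `aI`.
-/

set_option autoImplicit false
set_option maxRecDepth 100000

namespace CfsgLib.PSpFourThree

open CfsgLib.CosetEnum (allBelow)

/-- the packed extension of the images of the two generators -/
noncomputable def ext5 (a b : ℕ) : ℕ → ℕ
  | 0 => 0
  | k + 1 =>
    let F := ext5 a b k
    F + ((mul5 ((F >>> (10 * ppar (k + 1))) % 1024) (bif Nat.beq (plet (k + 1)) 0 then a else b))
      <<< (10 * (k + 1)))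

/-- the value at a tree position -/
noncomputable def lookF (F k : ℕ) : ℕ := (F >>> (10 * k)) % 1024

/-- the packed map obeys the recursion -/
noncomputable def recOK (F a b : ℕ) : Bool :=
  Nat.beq (lookF F 0) 0 && allBelow (fun k => impB (!(Nat.beq k 0))
    (Nat.beq (lookF F k) (mul5 (lookF F (ppar k)) (bif Nat.beq (plet k) 0 then a else b)))) 48

/-- a monomorphism exchanging `tI` and `aI` -/
noncomputable def validF (F a b : ℕ) : Bool :=
  Nat.beq (lookF F (pix tI)) aI && Nat.beq (lookF F (pix aI)) tI &&
    allBelow (fun k => (Nat.beq k 0 || !(Nat.beq (lookF F k) 0)) &&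
      Nat.beq (lookF F (pix (mul5 (pel k) p1))) (mul5 (lookF F k) a) &&
      Nat.beq (lookF F (pix (mul5 (pel k) p2))) (mul5 (lookF F k) b)) 48

/-- the number of a member of the elementary subgroup -/
noncomputable def findI (v : ℕ) : ℕ → ℕ
  | 0 => 16
  | n + 1 => bif Nat.beq (eI n) v then n else findI v n

/-- the action of the packed map on the elementary subgroup -/
noncomputable def actF (F k : ℕ) : ℕ := findI (lookF F (pix (eI k))) 16

/-- the packed map is `phi` after an inner automorphism, or is refuted -/
noncomputable def swapOK (i j : ℕ) : Bool :=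
  impB (Nat.beq (mul5 (pel i) (pel i)) 0)
    (impB (Nat.beq (mul5 (mul5 (mul5 (pel j) (pel j)) (pel j)) (mul5 (mul5 (pel j) (pel j)) (pel j))) 0)
      (recOK (ext5 (pel i) (pel j) 47) (pel i) (pel j) &&
        impB (validF (ext5 (pel i) (pel j) 47) (pel i) (pel j))
          (refuted (actF (ext5 (pel i) (pel j) 47)) (fun k => k) ||
            anyBelow (fun h => allBelow (fun k => Nat.beq (lookF (ext5 (pel i) (pel j) 47) k)
              (phi (cj5 (pel h) (pel k)))) 48) 48)))

theorem swap_cases : allBelow (fun i => allBelow (fun j => swapOK i j) 48) 48 = true := by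
  decide +kernel

theorem pel_check : allBelow (fun k => Nat.blt (pel k) 576 && inP (pel k) &&
    Nat.beq (pix (pel k)) k && Nat.blt (plet k) 2 &&
    impB (!(Nat.beq k 0)) (Nat.blt (ppar k) k &&
      Nat.beq (mul5 (pel (ppar k)) (bif Nat.beq (plet k) 0 then p1 else p2)) (pel k)) &&
    Nat.blt (phi (pel k)) 576 && inP (phi (pel k)) && Nat.beq (phi (phi (pel k))) (pel k) &&
    allBelow (fun l => Nat.beq (phi (mul5 (pel k) (pel l))) (mul5 (phi (pel k)) (phi (pel l)))) 48)
    48 = true := by
  decide +kernel

theorem pel_cover : allBelow (fun i => impB (inP i) (Nat.blt (pix i) 48 && Nat.beq (pel (pix i)) i))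
    576 = true := by
  decide +kernel

theorem swap_consts : inP p1 = true ∧ inP p2 = true ∧ mul5 p1 p1 = 0 ∧
    mul5 (mul5 (mul5 p2 p2) p2) (mul5 (mul5 p2 p2) p2) = 0 ∧ pel 0 = 0 ∧
    inP tI = true ∧ inP aI = true ∧ inP zI = true ∧ phi tI = aI ∧ phi aI = tI ∧ phi zI = zI := by
  decide +kernel

/-- Elements of the centraliser of `aI` fixed by `phi` and central act trivially. -/
theorem centre_check : allBelow (fun i => impB (inP i && com5 i p1 && com5 i p2)
    (Nat.beq i 0 || Nat.beq i tI || Nat.beq i aI || Nat.beq i zI)) 576 = true := by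
  decide +kernel

end CfsgLib.PSpFourThree
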