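import Cfsg.Agent.PSpFourThree.Glue
import Cfsg.Agent.PSpFourThree.SwapFacts

/-!
An involution exchanging the centre and `aI`, inducing `phi` on their common centraliser.
-/

set_option autoImplicit false
set_option maxRecDepth 100000

namespace CfsgLib.PSpFourThree

open CfsgLib.CosetEnum (allBelow)
open CfsgLib.StronglyEmbedded (orderOf_two_iff orderOf_conj)

variable {G : Type*} [Group G] {f : ℕ → G} {s g : G}

/-- `g` is an involution inducing `phi` on the centraliser of `aI` in the centraliser of `s`. -/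
structure Swap (f : ℕ → G) (g : G) : Prop where
  sq : g * g = 1
  conj : ∀ i < 576, inP i = true → g * f i * g⁻¹ = f (phi i)

theorem pel_spec {k : ℕ} (hk : k < 48) : pel k < 576 ∧ inP (pel k) = true ∧ pix (pel k) = k ∧
    plet k < 2 ∧ (k ≠ 0 → ppar k < k ∧
      mul5 (pel (ppar k)) (bif Nat.beq (plet k) 0 then p1 else p2) = pel k) ∧
    phi (pel k) < 576 ∧ inP (phi (pel k)) = true ∧ phi (phi (pel k)) = pel k ∧
    ∀ l < 48, phi (mul5 (pel k) (pel l)) = mul5 (phi (pel k)) (phi (pel l)) := by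
  have := allBelow_spec pel_check k hk
  simp only [Bool.and_eq_true, blt_spec, beq_spec] at this
  obtain ⟨⟨⟨⟨⟨⟨⟨⟨h1, h2⟩, h3⟩, h4⟩, h5⟩, h6⟩, h7⟩, h8⟩, h9⟩ := this
  refine ⟨h1, h2, h3, h4, fun h0 => ?_, h6, h7, h8, fun l hl => beq_spec.1 (allBelow_spec h9 l hl)⟩
  have := impB_spec h5 (by rw [Bool.not_eq_true', beq_false_spec]; exact h0)
  simpa [Bool.and_eq_true, blt_spec, beq_spec] using this

theorem exists_pel {i : ℕ} (hi : i < 576) (hP : inP i = true) :
    ∃ k < 48, pel k = i ∧ pix i = k := by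
  have := impB_spec (allBelow_spec pel_cover i hi) hP
  rw [Bool.and_eq_true, blt_spec, beq_spec] at this
  exact ⟨_, this.1, this.2, rfl⟩

theorem phi_lt {i : ℕ} (hi : i < 576) (hP : inP i = true) :
    phi i < 576 ∧ inP (phi i) = true ∧ phi (phi i) = i := by
  obtain ⟨k, hk, rfl, -⟩ := exists_pel hi hP
  exact ⟨(pel_spec hk).2.2.2.2.2.1, (pel_spec hk).2.2.2.2.2.2.1, (pel_spec hk).2.2.2.2.2.2.2.1⟩

theorem findI_eq {v l : ℕ} (hl : l < 16) (e : eI l = v) : ∀ n, l < n → n ≤ 16 → findI v n = l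
  | 0, h, _ => absurd h (Nat.not_lt_zero l)
  | n + 1, h, hn => by
    rw [findI]
    by_cases hv : eI n = v
    · rw [beq_spec.2 hv, cond_true]
      exact ((eI_laws (k := n) (by omega)).2.2.2.2.1 l hl).2 (hv.trans e.symm)
    · rw [beq_false_spec.2 hv, cond_false]
      have : l ≠ n := fun h' => hv (h' ▸ e)
      exact findI_eq hl e n (by omega) (by omega)

theorem Emb5.inP_iff (h : Emb5 f s) {i : ℕ} (hi : i < 576) :
    inP i = true ↔ f i * f aI = f aI * f i := h.com_iff hi const_lt.2.1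

theorem Swap.conj_s (h : Emb5 f s) (hg : Swap f g) :
    g * s * g⁻¹ = f aI ∧ g * f aI * g⁻¹ = s ∧ g * f zI * g⁻¹ = f zI := by
  obtain ⟨-, -, -, -, -, ht, ha, hz, e1, e2, e3⟩ := swap_consts
  refine ⟨?_, ?_, ?_⟩
  · rw [← h.map_t, hg.conj _ const_lt.1 ht, e1]
  · rw [hg.conj _ const_lt.2.1 ha, e2, h.map_t]
  · rw [hg.conj _ const_lt.2.2.1 hz, e3]

theorem Swap.inv_eq (hg : Swap f g) : g⁻¹ = g := inv_eq_of_mul_eq_one_right hg.sq

theorem Swap.acts (hg : Swap f g) : Acts f g mPhi := fun k hk => by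
  obtain ⟨-, hP, -, -, -, -, hlt, hm⟩ := eI_laws hk
  exact ⟨hlt, by rw [hg.conj _ (eI_lt hk) hP, hm]⟩

/-- Such an involution exists. -/
theorem Emb5.exists_swap (h : Emb5 f s) (hsa : IsConj s (f aI)) : ∃ g : G, Swap f g := by
  obtain ⟨g, hga, hgs⟩ := h.exists_exchange hsa
  obtain ⟨hP1, hP2, hsq1, hsix, hpel0, htP, haP, hzP, ht', ha', hz'⟩ := swap_consts
  obtain ⟨-, ha, hz, -, -, -, hp1, hp2, -⟩ := const_lt
  have himg : ∀ i < 576, inP i = true → ∃ q < 576, inP q = true ∧ g * f i * g⁻¹ = f q := by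
    intro i hi hP
    have hia := (h.inP_iff hi).1 hP
    have his := h.comm_s hi
    obtain ⟨q, hq, hqe⟩ := h.surj (g * f i * g⁻¹) (by
      conv_lhs => arg 2; rw [← hga]
      conv_rhs => arg 1; rw [← hga]
      calc g * f i * g⁻¹ * (g * f aI * g⁻¹) = g * (f i * f aI) * g⁻¹ := by group
        _ = g * (f aI * f i) * g⁻¹ := by rw [hia]
        _ = _ := by group)
    refine ⟨q, hq, (h.inP_iff hq).2 ?_, hqe.symm⟩
    rw [hqe, ← hgs]
    calc g * f i * g⁻¹ * (g * s * g⁻¹) = g * (f i * s) * g⁻¹ := by group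
      _ = g * (s * f i) * g⁻¹ := by rw [his]
      _ = _ := by group
  obtain ⟨q1, hq1, hq1P, he1⟩ := himg p1 hp1 hP1
  obtain ⟨q2, hq2, hq2P, he2⟩ := himg p2 hp2 hP2
  obtain ⟨i, hi, rfl, -⟩ := exists_pel hq1 hq1P
  obtain ⟨j, hj, rfl, -⟩ := exists_pel hq2 hq2P
  have hc1 : mul5 (pel i) (pel i) = 0 := h.inj _ (mul5_lt hq1 hq1) 0 (by norm_num) (by
    rw [h.mul _ hq1 _ hq1, ← he1, h.map_zero]
    calc g * f p1 * g⁻¹ * (g * f p1 * g⁻¹) = g * (f p1 * f p1) * g⁻¹ := by group
      _ = 1 := by rw [← h.mul _ hp1 _ hp1, hsq1, h.map_zero]; group)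
  have hc2 : mul5 (mul5 (mul5 (pel j) (pel j)) (pel j)) (mul5 (mul5 (pel j) (pel j)) (pel j)) = 0 := by
    have l3 := mul5_lt (mul5_lt hq2 hq2) hq2
    refine h.inj _ (mul5_lt l3 l3) 0 (by norm_num) ?_
    rw [h.mul _ l3 _ l3, h.mul _ (mul5_lt hq2 hq2) _ hq2, h.mul _ hq2 _ hq2, ← he2, h.map_zero]
    have := congrArg f hsix
    rw [h.mul _ (mul5_lt (mul5_lt hp2 hp2) hp2) _ (mul5_lt (mul5_lt hp2 hp2) hp2),
      h.mul _ (mul5_lt hp2 hp2) _ hp2, h.mul _ hp2 _ hp2, h.map_zero] at this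
    calc _ = g * (f p2 * f p2 * f p2 * (f p2 * f p2 * f p2)) * g⁻¹ := by group
      _ = 1 := by rw [this]; group
  have hok := impB_spec (impB_spec (allBelow_spec (allBelow_spec swap_cases i hi) j hj)
    (beq_spec.2 hc1)) (beq_spec.2 hc2)
  set F := ext5 (pel i) (pel j) 47 with hF
  rw [Bool.and_eq_true] at hok
  obtain ⟨hrec, hval⟩ := hok
  rw [recOK, Bool.and_eq_true, beq_spec] at hrec
  have hlook : ∀ k, k < 48 → lookF F k < 576 ∧ g * f (pel k) * g⁻¹ = f (lookF F k) := by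
    intro k
    induction k using Nat.strong_induction_on with
    | _ k ih =>
    intro hk
    by_cases h0 : k = 0
    · subst h0
      rw [hrec.1, hpel0, h.map_zero]
      exact ⟨by norm_num, by group⟩
    obtain ⟨-, -, -, -, hstep, -⟩ := pel_spec hk
    obtain ⟨hpl, he⟩ := hstep h0
    obtain ⟨ihlt, ihe⟩ := ih _ hpl (by omega)
    have hpp := (pel_spec (show ppar k < 48 by omega)).1
    rw [beq_spec.1 (impB_spec (allBelow_spec hrec.2 k hk)
      (by rw [Bool.not_eq_true', beq_false_spec]; exact h0))]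
    cases hb : Nat.beq (plet k) 0 <;> rw [hb] at he
    · refine ⟨mul5_lt ihlt hq2, ?_⟩
      show _ = f (mul5 _ (pel j))
      rw [h.mul _ ihlt _ hq2, ← ihe, ← he2, ← he, cond_false, h.mul _ hpp _ hp2]
      group
    · refine ⟨mul5_lt ihlt hq1, ?_⟩
      show _ = f (mul5 _ (pel i))
      rw [h.mul _ ihlt _ hq1, ← ihe, ← he1, ← he, cond_true, h.mul _ hpp _ hp1]
      group
  have hmap : ∀ p < 576, inP p = true → lookF F (pix p) < 576 ∧
      g * f p * g⁻¹ = f (lookF F (pix p)) := by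
    intro p hp hP
    obtain ⟨k, hk, rfl, hpx⟩ := exists_pel hp hP
    rw [hpx]
    exact hlook k hk
  have hPmul : ∀ {a b}, a < 576 → b < 576 → inP a = true → inP b = true → inP (mul5 a b) = true := by
    intro a b ha' hb hA hB
    rw [h.inP_iff (mul5_lt ha' hb), h.mul _ ha' _ hb, mul_assoc, (h.inP_iff hb).1 hB, ← mul_assoc,
      (h.inP_iff ha').1 hA, mul_assoc]
  have hvalid : validF F (pel i) (pel j) = true := by
    simp only [validF, Bool.and_eq_true, beq_spec]
    refine ⟨⟨?_, ?_⟩, allBelow_intro fun k hk => ?_⟩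
    · obtain ⟨l, e⟩ := hmap tI const_lt.1 htP
      exact h.inj _ l _ ha (by rw [← e, h.map_t, hgs])
    · obtain ⟨l, e⟩ := hmap aI ha haP
      exact h.inj _ l _ const_lt.1 (by rw [← e, h.map_t, hga])
    obtain ⟨hkl, hkP, -⟩ := pel_spec hk
    obtain ⟨hl, hle⟩ := hlook k hk
    simp only [Bool.and_eq_true, Bool.or_eq_true, Bool.not_eq_true', beq_spec, beq_false_spec]
    refine ⟨⟨?_, ?_⟩, ?_⟩
    · by_cases h0 : k = 0
      · exact .inl h0
      · refine .inr fun e => h0 ?_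
        rw [e, h.map_zero, conj_eq_one_iff, ← h.map_zero] at hle
        have := h.inj _ hkl 0 (by norm_num) hle
        rw [← hpel0] at this
        rw [← (pel_spec hk).2.2.1, this, (pel_spec (show 0 < 48 by norm_num)).2.2.1]
    · obtain ⟨l, e⟩ := hmap _ (mul5_lt hkl hp1) (hPmul hkl hp1 hkP hP1)
      refine h.inj _ l _ (mul5_lt hl hq1) ?_
      rw [← e, h.mul _ hkl _ hp1, h.mul _ hl _ hq1, ← hle, ← he1]
      group
    · obtain ⟨l, e⟩ := hmap _ (mul5_lt hkl hp2) (hPmul hkl hp2 hkP hP2)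
      refine h.inj _ l _ (mul5_lt hl hq2) ?_
      rw [← e, h.mul _ hkl _ hp2, h.mul _ hl _ hq2, ← hle, ← he2]
      group
  have hact : Acts f g (actF F) := by
    intro k hk
    obtain ⟨-, hP, -, hsq, -⟩ := eI_laws hk
    obtain ⟨hl, hle⟩ := hmap _ (eI_lt hk) hP
    obtain ⟨q, hq, hqP, hqe⟩ := himg _ (eI_lt hk) hP
    obtain rfl : lookF F (pix (eI k)) = q := h.inj _ hl _ hq (hle.symm.trans hqe)
    have hq0 : mul5 (lookF F (pix (eI k))) (lookF F (pix (eI k))) = 0 :=
      h.inj _ (mul5_lt hq hq) 0 (by norm_num) (by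
        rw [h.mul _ hq _ hq, ← hqe, h.map_zero]
        calc g * f (eI k) * g⁻¹ * (g * f (eI k) * g⁻¹) = g * (f (eI k) * f (eI k)) * g⁻¹ := by group
          _ = 1 := by rw [← h.mul _ (eI_lt hk) _ (eI_lt hk), hsq, h.map_zero]; group)
    obtain ⟨l, hl16, hle16⟩ := (inE_laws hq).1 ((inE_laws hq).2.1 hqP hq0)
    rw [actF, findI_eq hl16 hle16 16 hl16 le_rfl, hle16]
    exact ⟨hl16, hle⟩
  have hinner := impB_spec hval hvalid
  rw [h.not_refuted hact Acts.one, Bool.false_or] at hinner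
  obtain ⟨m, hm, hme⟩ := anyBelow_spec hinner
  obtain ⟨hml, hmP, -⟩ := pel_spec hm
  -- after correcting by an inner automorphism the map is `phi`
  set g' := g * (f (pel m))⁻¹ with hg'
  have hg'conj : ∀ p < 576, inP p = true → g' * f p * g'⁻¹ = f (phi p) := by
    intro p hp hP
    have hk1 := cj5_lt (inv5_lt hml).1 hp
    have hk1P : inP (cj5 (inv5 (pel m)) p) = true := by
      rw [h.inP_iff hk1, h.map_cj (inv5_lt hml).1 hp, h.map_inv hml, inv_inv]
      have c1 : Commute (f (pel m)) (f aI) := (h.inP_iff hml).1 hmP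
      have c2 : Commute (f p) (f aI) := (h.inP_iff hp).1 hP
      exact ((c1.inv_left.mul_left c2).mul_left c1).eq
    obtain ⟨l, hl, hle, hlx⟩ := exists_pel hk1 hk1P
    have hp' : cj5 (pel m) (pel l) = p := h.inj _ (cj5_lt hml (hle ▸ hk1)) _ hp (by
      rw [h.map_cj hml (hle ▸ hk1), hle, h.map_cj (inv5_lt hml).1 hp, h.map_inv hml]
      group)
    have := (hlook l hl).2
    rw [beq_spec.1 (allBelow_spec hme l hl), hp', hle, h.map_cj (inv5_lt hml).1 hp, h.map_inv hml]
      at this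
    rw [← this, hg']
    group
  have hg's : g' * s * g'⁻¹ = f aI := by rw [← h.map_t, hg'conj _ const_lt.1 htP, ht']
  have hg'a : g' * f aI * g'⁻¹ = s := by rw [hg'conj _ ha haP, ha', h.map_t]
  -- its square is central in the common centraliser
  obtain ⟨c, hc, hce⟩ := h.surj (g' * g') (mul_inv_eq_iff_eq_mul.1 (by
    calc g' * g' * s * (g' * g')⁻¹ = g' * (g' * s * g'⁻¹) * g'⁻¹ := by group
      _ = s := by rw [hg's, hg'a]))
  have hfix : ∀ p < 576, inP p = true → f c * f p = f p * f c := by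
    intro p hp hP
    refine mul_inv_eq_iff_eq_mul.1 ?_
    obtain ⟨l1, l2, l3⟩ := phi_lt hp hP
    rw [hce]
    calc g' * g' * f p * (g' * g')⁻¹ = g' * (g' * f p * g'⁻¹) * g'⁻¹ := by group
      _ = f p := by rw [hg'conj p hp hP, hg'conj _ l1 l2, l3]
  have hcP : inP c = true := (h.inP_iff hc).2 (hfix aI ha haP)
  have hcz := impB_spec (allBelow_spec centre_check c hc) (by
    rw [Bool.and_eq_true, Bool.and_eq_true, h.com_iff hc hp1, h.com_iff hc hp2]
    exact ⟨⟨hcP, hfix p1 hp1 hP1⟩, hfix p2 hp2 hP2⟩)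
  simp only [Bool.or_eq_true, beq_spec] at hcz
  have hgc : g' * f c * g'⁻¹ = f c := by rw [hce]; group
  have hphic : phi c = c :=
    h.inj _ (phi_lt hc hcP).1 _ hc ((hg'conj c hc hcP).symm.trans hgc)
  rcases hcz with ((e | e) | e) | e
  · exact ⟨g', by rw [← hce, e, h.map_zero], hg'conj⟩
  · rw [e, ht'] at hphic; exact absurd hphic (by decide)
  · rw [e, ha'] at hphic; exact absurd hphic (by decide)
  · refine ⟨g' * f tI, ?_, fun p hp hP => ?_⟩
    · have hza : f zI = f aI * s := by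
        rw [h.comm_s ha, ← h.map_t, ← h.mul _ const_lt.1 _ ha, const_cls.2.2.2.2.2.2.2.2]
      have hsq : s * s = 1 := (orderOf_two_iff.1 h.orderOf_s).1
      have haa : f aI * f aI = 1 :=
        (orderOf_two_iff.1 (h.orderOf_invol ha const_cls.2.1)).1
      rw [h.map_t]
      calc g' * s * (g' * s) = g' * s * g'⁻¹ * (g' * g') * s := by group
        _ = f aI * (f aI * s) * s := by rw [hg's, ← hce, e, hza]
        _ = 1 := by rw [← mul_assoc (f aI), haa, one_mul, hsq]
    · rw [h.map_t, ← hg'conj p hp hP]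
      have hps := h.comm_s hp
      calc g' * s * f p * (g' * s)⁻¹ = g' * (s * f p) * s⁻¹ * g'⁻¹ := by group
        _ = g' * (f p * s) * s⁻¹ * g'⁻¹ := by rw [hps]
        _ = _ := by group

/-- The central involution is not fused to `zI`. -/
theorem Swap.not_conj_z (h : Emb5 f s) (hg : Swap f g) : ¬ IsConj s (f zI) := by
  intro hsz
  obtain ⟨b, hb⟩ := isConj_iff.1 hsz.symm
  have hz := const_lt.2.2.1
  have hcomm := h.comm_s hz
  obtain ⟨i, hi, hv, hie⟩ := h.exists_invol (y := b * s * b⁻¹) (by rw [orderOf_conj, h.orderOf_s]) (by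
    calc b * s * b⁻¹ * s = b * (s * f zI) * b⁻¹ := by conv_lhs => arg 2; rw [← hb]
                                                      group
      _ = b * (f zI * s) * b⁻¹ := by rw [hcomm]
      _ = b * f zI * b⁻¹ * (b * s * b⁻¹) := by group
      _ = _ := by rw [hb])
  have hne : i ≠ tI := fun e => by
    rw [e, h.map_t] at hie
    have h' : f zI = f tI := by
      rw [h.map_t]
      calc f zI = b⁻¹ * (b * f zI * b⁻¹) * b := by group
        _ = b⁻¹ * (b * s * b⁻¹) * b := by rw [hb, ← hie]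
        _ = s := by group
    exact absurd (h.inj _ hz _ const_lt.1 h') (by decide)
  obtain ⟨l, hl, hle⟩ := cls_conj hi hv
  have hmove : ∀ r < 576, cj5 l r = i →
      (f l)⁻¹ * b * f zI * ((f l)⁻¹ * b)⁻¹ = s ∧ (f l)⁻¹ * b * s * ((f l)⁻¹ * b)⁻¹ = f r := by
    intro r hr e
    have hls := h.comm_s hl
    constructor
    · calc (f l)⁻¹ * b * f zI * ((f l)⁻¹ * b)⁻¹ = (f l)⁻¹ * (b * f zI * b⁻¹) * f l := by group
        _ = (f l)⁻¹ * (s * f l) := by rw [hb]; group
        _ = s := by rw [← hls, inv_mul_cancel_left]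
    · calc (f l)⁻¹ * b * s * ((f l)⁻¹ * b)⁻¹ = (f l)⁻¹ * (b * s * b⁻¹) * f l := by group
        _ = f r := by rw [← hie, ← e, h.map_cj hl hr]; group
  rcases inv_classes hi hv with e | e | e | e
  · exact absurd e hne
  · exfalso
    rw [e, show repI 2 = iI from rfl] at hle
    obtain ⟨h1, h2⟩ := hmove iI const_lt.2.2.2.1 hle
    set b' := (f l)⁻¹ * b
    have hd : inP yR = true ∧ mul5 (mul5 yR yR) yR = 0 ∧ yR ≠ 0 ∧
        allBelow (fun k => impB (com5 k iI) (Nat.beq (mul5 (mul5 k k) (mul5 k k)) 0)) 576 = true := by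
      decide +kernel
    obtain ⟨hP, h3, hy0, h4⟩ := hd
    have hy := const_lt.2.2.2.2.2.2.2.2.2.2.2
    have hyz := (h.com_iff hy hz).1 ((inE_laws hy).2.2.1.1 hP)
    have hys := h.comm_s hy
    obtain ⟨k, hk, hke⟩ := h.surj (b' * f yR * b'⁻¹) (by
      rw [← h1]
      calc b' * f yR * b'⁻¹ * (b' * f zI * b'⁻¹) = b' * (f yR * f zI) * b'⁻¹ := by group
        _ = b' * (f zI * f yR) * b'⁻¹ := by rw [hyz]
        _ = _ := by group)
    have hki : com5 k iI = true := (h.com_iff hk const_lt.2.2.2.1).2 (by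
      rw [hke, ← h2]
      calc b' * f yR * b'⁻¹ * (b' * s * b'⁻¹) = b' * (f yR * s) * b'⁻¹ := by group
        _ = b' * (s * f yR) * b'⁻¹ := by rw [hys]
        _ = _ := by group)
    have hk4 := congrArg f (beq_spec.1 (impB_spec (allBelow_spec h4 k hk) hki))
    rw [h.mul _ (mul5_lt hk hk) _ (mul5_lt hk hk), h.mul _ hk _ hk, h.map_zero, hke] at hk4
    have hy3 := congrArg f h3
    rw [h.mul _ (mul5_lt hy hy) _ hy, h.mul _ hy _ hy, h.map_zero] at hy3
    refine hy0 (h.inj _ hy 0 (by norm_num) ?_)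
    rw [h.map_zero]
    have : f yR = b'⁻¹ * (b' * f yR * b'⁻¹ * (b' * f yR * b'⁻¹) * (b' * f yR * b'⁻¹ * (b' * f yR * b'⁻¹))) * b' := by
      calc f yR = f yR * f yR * f yR * f yR := by rw [hy3, one_mul]
        _ = _ := by group
    rw [this, hk4]; group
  · -- the inverse would carry `aI` to the centre and the centre to `zI`
    rw [e, show repI 3 = aI from rfl] at hle
    obtain ⟨h1, h2⟩ := hmove aI const_lt.2.1 hle
    set b' := (f l)⁻¹ * b
    refine h.not_to_z (g := b'⁻¹) ?_ ?_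
    · rw [← h2]; group
    · rw [← h1]; group
  · rw [e, show repI 4 = zI from rfl] at hle
    obtain ⟨h1, h2⟩ := hmove zI hz hle
    set b' := (f l)⁻¹ * b
    obtain ⟨n, hn, n1, n3, hd, hlin⟩ := h.exists_acts (.inr rfl) (.inr rfl) h1 h2
    rw [show tgtK zI = 3 by decide] at n1 n3
    have n2 : n 2 = 2 := by
      have := hlin 3 (by norm_num)
      simp only [linM, n1] at this
      rw [n3, show Nat.testBit 3 0 = true by decide, show Nat.testBit 3 1 = true by decide,
        show Nat.testBit 3 2 = false by decide, show Nat.testBit 3 3 = false by decide] at this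
      simp only [cond_true, cond_false, Nat.xor_zero] at this
      have := congrArg (fun x => 3 ^^^ x) this
      simp only [← Nat.xor_assoc, Nat.xor_self, Nat.zero_xor] at this
      exact this.symm
    have e' : ∀ k < 16, n k = linM 3 2 (n 4) (n 8) k := fun k hk => by
      conv_lhs => rw [hlin k hk, n1, n2]
    have := allBelow_spec (allBelow_spec no_swap_z (n 4) (hn 4 (by norm_num)).1) (n 8)
      (hn 8 (by norm_num)).1
    rw [linM_congr e' hd, Bool.false_or] at this
    have hn' := h.not_refuted hg.acts (hn.of_eq e')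
    rw [this] at hn'
    exact Bool.noConfusion hn'

end CfsgLib.PSpFourThree
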